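import Cfsg.Agent.Lib.S3344Id.Point

/-!
S3344: the root elements of the two normalisers give Steinberg relations of `SL(4,2)`.
-/

set_option autoImplicit false

namespace Cfsg.Agent.S3344Id

variable {G : Type*} [Group G]

/-- The family of seven elements `x₁₂ x₁₃ x₁₄ x₂₃ x₂₄ x₃₄ x₃₂`, indices from `0`. -/
def fam7 (r12 r13 r14 r23 r24 r34 r32 : G) (i j : Fin 4) : G :=
  match i.val, j.val with
  | 0, 1 => r12
  | 0, 2 => r13
  | 0, 3 => r14
  | 1, 2 => r23
  | 1, 3 => r24
  | 2, 3 => r34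
  | 2, 1 => r32
  | _, _ => 1

/-- Transpose about the second diagonal. -/
def flipF (y : Fin 4 → Fin 4 → G) (i j : Fin 4) : G := y j.rev i.rev

/-- The hypotheses on the root elements in the centraliser of the involution. -/
structure RootConfig (G : Type*) [Group G] (s : G) where
  r : Fin 4 → Fin 4 → G
  r_eq : r 0 3 = s
  rels : Rels root7 r
  gen : Subgroup.centralizer ({s} : Set G) ≤
    Subgroup.closure {x | ∃ i j, root7 i j = true ∧ r i j = x}
  cent1 : Subgroup.centralizer (e1 r : Set G) ≤ e1 r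
  cent3 : Subgroup.centralizer (e1 (flipF r) : Set G) ≤ e1 (flipF r)
  norm1 : Nat.card (Subgroup.normalizer (e1 r : Set G)) = 1344
  norm3 : Nat.card (Subgroup.normalizer (e1 (flipF r) : Set G)) = 1344
  nc1 : ¬ IsConj (r 0 2 * r 1 3) (r 1 2)
  nc2 : ¬ IsConj (r 0 2 * r 1 3) (r 2 1)

theorem root7_flip : ∀ i j, root7 i j = true → root7 j.rev i.rev = true := by decide

theorem root3_flip : ∀ i j, root3 i j = true → root9 j.rev i.rev = true := by decide

theorem root9_flip : ∀ i j, root9 i j = true → root3 j.rev i.rev = true := by decide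

theorem rels_flip {S T : Fin 4 → Fin 4 → Bool} {y : Fin 4 → Fin 4 → G}
    (hST : ∀ i j, T i j = true → S j.rev i.rev = true) (h : Rels S y) : Rels T (flipF y) := by
  obtain ⟨h1, h2, h3⟩ := h
  refine ⟨fun i j hij => h1 _ _ (hST i j hij), fun i j hij k l hkl hil hjk => ?_,
    fun i j hij l hjl hil => ?_⟩
  · exact h2 _ _ (hST i j hij) _ _ (hST k l hkl) (fun e => hjk (Fin.rev_injective e))
      (fun e => hil (Fin.rev_injective e))
  · show y j.rev i.rev * y l.rev j.rev * (y j.rev i.rev * y l.rev j.rev) = y l.rev i.rev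
    have a2 := h1 _ _ (hST i j hij)
    have b2 := h1 _ _ (hST j l hjl)
    have c2 := h1 _ _ (hST i l hil)
    have hb := h3 _ _ (hST j l hjl) _ (hST i j hij) (hST i l hil)
    rw [← inv_eq_of_mul_eq_one_right c2, ← hb]
    simp only [mul_inv_rev, inv_eq_of_mul_eq_one_right a2, inv_eq_of_mul_eq_one_right b2, mul_assoc]

/-- Root elements of `SL(4,2)`. -/
structure Full (y : Fin 4 → Fin 4 → G) : Prop where
  sq : ∀ i j, i ≠ j → y i j * y i j = 1
  com : ∀ i j k l, i ≠ j → k ≠ l → i ≠ l → j ≠ k → y i j * y k l = y k l * y i j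
  brac : ∀ i j l, i ≠ j → j ≠ l → i ≠ l → y i j * y j l * (y i j * y j l) = y i l

theorem wing_map {H : Type*} [Group H] (f : G →* H) {y : Fin 4 → Fin 4 → G} (hy : Wing y) :
    Wing (fun i j => f (y i j)) := by
  obtain ⟨⟨h1, h2, h3⟩, s1, s2, b1, b2, br⟩ := hy
  have hw : ∀ a b, w (fun i j => f (y i j)) a b = f (w y a b) := fun a b => by
    simp [w, map_mul]
  refine ⟨⟨fun i j hij => ?_, fun i j hij k l hkl e1' e2' => ?_, fun i j hij l hjl hil => ?_⟩,
    fun i j hij => ?_, fun i j hij => ?_, ?_, ?_, ?_⟩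
  · rw [← map_mul, h1 i j hij, map_one]
  · rw [← map_mul, ← map_mul, h2 i j hij k l hkl e1' e2']
  · rw [← map_mul, ← map_mul, h3 i j hij l hjl hil]
  · rw [hw, ← map_mul, ← map_mul, s1 i j hij]
  · rw [hw, ← map_mul, ← map_mul, s2 i j hij]
  · rw [hw, hw, b1]
  · rw [hw, hw, b2]
  · rw [hw, hw, ← map_mul, ← map_mul, ← map_mul, ← map_mul, br]

theorem commute_of_conj {a b x : G} (ha : a * a = 1) (hb : b * b = 1)
    (h : a * (b * x * b) * a = b * (a * x * a) * b) :
    a * b * (a * b) * x = x * (a * b * (a * b)) := by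
  have a' := inv_eq_of_mul_eq_one_right ha
  have b' := inv_eq_of_mul_eq_one_right hb
  have k : a * b * (a * b) * x * (b * a * (b * a)) = x := by
    calc a * b * (a * b) * x * (b * a * (b * a))
        = a * b * (a * (b * x * b) * a) * (b * a) := by simp only [mul_assoc]
      _ = a * b * (b * (a * x * a) * b) * (b * a) := by rw [h]
      _ = a * (b * b) * a * x * (a * (b * b) * a) := by simp only [mul_assoc]
      _ = x := by simp [ha, hb]
  calc a * b * (a * b) * x = a * b * (a * b) * x * ((b * a * (b * a)) * (a * b * (a * b))) := by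
        simp [mul_assoc, ← mul_assoc a a, ha, ← mul_assoc b b, hb]
    _ = a * b * (a * b) * x * (b * a * (b * a)) * (a * b * (a * b)) := by simp only [mul_assoc]
    _ = _ := by rw [k]

namespace RootConfig

variable {s : G} (C : RootConfig G s)
include C

theorem side : Side C.r := ⟨C.rels, C.cent1, C.norm1⟩

theorem side' : Side (flipF C.r) := ⟨rels_flip root7_flip C.rels, C.cent3, C.norm3⟩

theorem cent_le_norm :
    Subgroup.centralizer ({s} : Set G) ≤ Subgroup.normalizer (e1 C.r : Set G) :=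
  C.gen.trans ((Subgroup.closure_le _).2 (by
    rintro x ⟨i, j, hij, rfl⟩
    exact C.side.seven_mem hij))

theorem s_sq : s * s = 1 := by
  have := C.side.sq (i := 0) (j := 3) rfl
  rwa [C.r_eq] at this

theorem s_com {i j : Fin 4} (hij : root7 i j = true) : s * C.r i j = C.r i j * s := by
  have hd : root7 i j = true → (0 : Fin 4) ≠ j ∧ (3 : Fin 4) ≠ i := by revert i j; decide
  have := C.side.com (i := 0) (j := 3) (k := i) (l := j) rfl hij (hd hij).1 (hd hij).2
  rwa [C.r_eq] at this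

theorem exists_pair [Finite G] : ∃ p q : Fin 4 → Fin 4 → G,
    Wing p ∧ Wing q ∧ (∀ i j, root7 i j = true → p i j = C.r i j) ∧
      (∀ i j, root7 i j = true → q i j = flipF C.r i j) ∧
      p 3 2 * q 3 2 = q 3 2 * p 3 2 := by
  obtain ⟨p, hp, hp7, hpc⟩ := exists_point C.side C.nc1 C.nc2
  have nq : flipF C.r 0 2 * flipF C.r 1 3 = C.r 0 2 * C.r 1 3 :=
    C.side.com (i := 1) (j := 3) (k := 0) (l := 2) rfl rfl (by decide) (by decide)
  obtain ⟨q, hq, hq7, -⟩ := exists_point C.side' (nq ▸ C.nc1) (nq ▸ C.nc2)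
  obtain ⟨⟨ps, pc, pb⟩, -⟩ := id hp
  obtain ⟨⟨qs, qc, qb⟩, -⟩ := id hq
  set a := p 3 2 with had
  set b := q 3 2 with hbd
  have a2 : a * a = 1 := ps 3 2 rfl
  have b2 : b * b = 1 := qs 3 2 rfl
  have q02 : q 1 3 = p 0 2 := by rw [hp7 0 2 rfl, hq7 1 3 rfl]; rfl
  have q03 : q 0 3 = p 0 3 := by rw [hp7 0 3 rfl, hq7 0 3 rfl]; rfl
  have q12 : q 1 2 = p 1 2 := by rw [hp7 1 2 rfl, hq7 1 2 rfl]; rfl
  have q13 : q 0 2 = p 1 3 := by rw [hp7 1 3 rfl, hq7 0 2 rfl]; rfl
  have a02 : a * p 0 2 * a = p 0 2 := by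
    rw [pc 3 2 rfl 0 2 rfl (by decide) (by decide), mul_assoc, a2, mul_one]
  have a12 : a * p 1 2 * a = p 1 2 := by
    rw [pc 3 2 rfl 1 2 rfl (by decide) (by decide), mul_assoc, a2, mul_one]
  have a03 : a * p 0 3 * a = p 0 3 * p 0 2 := by
    have := conj_brac (ps 0 3 rfl) a2 (pb 0 3 rfl 2 rfl rfl)
    rwa [inv_eq_of_mul_eq_one_right a2] at this
  have a13 : a * p 1 3 * a = p 1 3 * p 1 2 := by
    have := conj_brac (ps 1 3 rfl) a2 (pb 1 3 rfl 2 rfl rfl)
    rwa [inv_eq_of_mul_eq_one_right a2] at this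
  have b02 : b * p 0 2 * b = p 0 2 * p 1 2 := by
    have := conj_brac (qs 1 3 rfl) b2 (qb 1 3 rfl 2 rfl rfl)
    rwa [inv_eq_of_mul_eq_one_right b2, q02, q12] at this
  have b03 : b * p 0 3 * b = p 0 3 * p 1 3 := by
    have := conj_brac (qs 0 3 rfl) b2 (qb 0 3 rfl 2 rfl rfl)
    rwa [inv_eq_of_mul_eq_one_right b2, q03, q13] at this
  have b12 : b * p 1 2 * b = p 1 2 := by
    rw [← q12, qc 3 2 rfl 1 2 rfl (by decide) (by decide), mul_assoc, b2, mul_one]
  have b13 : b * p 1 3 * b = p 1 3 := by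
    rw [← q13, qc 3 2 rfl 0 2 rfl (by decide) (by decide), mul_assoc, b2, mul_one]
  have amul : ∀ x y : G, a * (x * y) * a = (a * x * a) * (a * y * a) := fun x y => by
    simp only [mul_assoc, ← mul_assoc a a, a2, one_mul]
  have bmul : ∀ x y : G, b * (x * y) * b = (b * x * b) * (b * y * b) := fun x y => by
    simp only [mul_assoc, ← mul_assoc b b, b2, one_mul]
  set c := a * b * (a * b) with hc
  have c02 : c * p 0 2 = p 0 2 * c := commute_of_conj a2 b2 (by
    rw [a02, b02, amul, a02, a12])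
  have c03 : c * p 0 3 = p 0 3 * c := commute_of_conj a2 b2 (by
    rw [a03, b03, amul, bmul, a03, a13, b03, b02]
    have h1 : p 1 3 * p 0 2 = p 0 2 * p 1 3 := pc 1 3 rfl 0 2 rfl (by decide) (by decide)
    simp only [mul_assoc]
    rw [← mul_assoc (p 1 3) (p 0 2), h1, mul_assoc])
  have c12 : c * p 1 2 = p 1 2 * c := commute_of_conj a2 b2 (by rw [a12, b12, a12])
  have c13 : c * p 1 3 = p 1 3 * c := commute_of_conj a2 b2 (by
    rw [a13, b13, bmul, a13, b13, b12])
  have hcN : c ∈ Subgroup.normalizer (e1 C.r : Set G) := by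
    refine C.cent_le_norm (Subgroup.mem_centralizer_singleton_iff.2 ?_)
    rw [← C.r_eq, ← hp7 0 3 rfl]
    exact c03
  have hac : a * c * (a * c) = 1 := by
    simp only [hc, ← mul_assoc, a2, one_mul]
    simp only [mul_assoc _ a a, a2, mul_one, mul_assoc _ b b, b2]
  have hbc : b * c * (b * c) = 1 := by
    simp only [hc, ← mul_assoc]
    simp only [mul_assoc _ b b, b2, mul_one, mul_assoc _ a a, a2]
  have h12 : p 1 2 ≠ 1 := by
    intro h1
    rw [hp7 1 2 rfl] at h1
    have := C.side.act_uniq C.side.act12 (h1 ▸ C.side.act_one)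
    exact absurd this.1 (by decide)
  have hb02 : ∀ z, z * z = 1 → b * z * (b * z) = 1 → b * z * b = z := fun z z2 hz =>
    mul_right_cancel (b := z) (by rw [z2, ← hz]; simp only [mul_assoc])
  have s02 := ps 0 2 rfl
  have s12 := ps 1 2 rfl
  have m02 : p 0 2 * p 1 2 * (p 0 2 * p 1 2) = 1 := by
    rw [mul_assoc, ← mul_assoc (p 1 2), pc 1 2 rfl 0 2 rfl (by decide) (by decide), mul_assoc,
      s12, mul_one, s02]
  rcases hpc c hcN c02 c03 c12 c13 hac with e' | e' | e' | e'
  · refine ⟨p, q, hp, hq, hp7, hq7, ?_⟩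
    have h2 : a * b * (a * b) = 1 := hc ▸ e'
    calc a * b = a * b * (a * b) * (b * a) := by
          simp [mul_assoc, ← mul_assoc b b, b2, ← mul_assoc a a, a2]
      _ = b * a := by rw [h2, one_mul]
  · exfalso
    have := hb02 _ s02 (e' ▸ hbc)
    rw [b02] at this
    exact h12 (mul_eq_left.1 this)
  · refine ⟨fun i j => MulAut.conj s (p i j), q, wing_map (MulAut.conj s).toMonoidHom hp, hq,
      fun i j hij => ?_, hq7, ?_⟩
    · show s * p i j * s⁻¹ = C.r i j
      rw [hp7 i j hij, C.s_com hij, mul_inv_cancel_right]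
    · show s * a * s⁻¹ * b = b * (s * a * s⁻¹)
      have hs : s = p 0 3 := by rw [hp7 0 3 rfl, C.r_eq]
      have hsa : s * a * s⁻¹ = a * p 0 2 := by
        rw [inv_eq_of_mul_eq_one_right C.s_sq, hs]
        have h3 : p 0 3 * p 0 2 = p 0 2 * p 0 3 := pc 0 3 rfl 0 2 rfl (by decide) (by decide)
        calc p 0 3 * a * p 0 3 = a * (a * p 0 3 * a) * p 0 3 := by
              simp [← mul_assoc, a2]
          _ = a * p 0 2 := by rw [a03, h3, mul_assoc, mul_assoc, ps 0 3 rfl, mul_one]
      rw [hsa]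
      have e2' : a * b * (a * b) = p 1 2 := hc ▸ e'
      have hab : a * b = p 1 2 * (b * a) := by
        rw [← e2']
        simp [mul_assoc, ← mul_assoc b b, b2, ← mul_assoc a a, a2]
      have hx : p 0 2 * b = b * p 0 2 * p 1 2 := by
        calc p 0 2 * b = b * (b * p 0 2 * b) := by simp [← mul_assoc, b2]
          _ = _ := by rw [b02, mul_assoc]
      have hb12 : p 1 2 * b = b * p 1 2 := by
        rw [← q12]; exact (qc 3 2 rfl 1 2 rfl (by decide) (by decide)).symm
      calc a * p 0 2 * b = a * b * (p 0 2 * p 1 2) := by rw [mul_assoc, hx]; simp only [mul_assoc]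
        _ = p 1 2 * b * (a * p 0 2) * p 1 2 := by rw [hab]; simp only [mul_assoc]
        _ = b * (p 1 2 * (a * p 0 2)) * p 1 2 := by
              rw [hb12]; simp only [mul_assoc]
        _ = b * ((a * p 0 2) * p 1 2) * p 1 2 := by
              have k1 : Commute (p 1 2) a := pc 1 2 rfl 3 2 rfl (by decide) (by decide)
              have k2 : Commute (p 1 2) (p 0 2) := pc 1 2 rfl 0 2 rfl (by decide) (by decide)
              rw [(Commute.mul_right k1 k2).eq]
        _ = b * (a * p 0 2) := by simp only [mul_assoc, s12, mul_one]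
  · exfalso
    have := hb02 _ m02 (e' ▸ hbc)
    rw [bmul, b02, b12] at this
    exact h12 (mul_eq_left.1 (mul_right_cancel this))

end RootConfig

theorem swap_conj {W u v : G} (hW : W * W = 1) (h : W * u * W = v) : W * v * W = u := by
  rw [← h]
  simp only [← mul_assoc, hW, one_mul]
  rw [mul_assoc, hW, mul_one]

theorem w_sq {y : Fin 4 → Fin 4 → G} {a b : Fin 4} (ha : y a b * y a b = 1)
    (hb : y b a * y b a = 1) : w y a b * w y a b = 1 := by
  simp only [w, ← mul_assoc]
  rw [mul_assoc (y a b * y b a) (y a b) (y a b), ha, mul_one, mul_assoc (y a b) (y b a) (y b a), hb,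
    mul_one, ha]

/-- Gluing along the seven common roots. -/
theorem exists_full {p q : Fin 4 → Fin 4 → G} (hp : Wing p) (hq : Wing q)
    (hpq : ∀ i j, root7 i j = true → q j.rev i.rev = p i j)
    (hc : p 3 2 * q 3 2 = q 3 2 * p 3 2) :
    ∃ y : Fin 4 → Fin 4 → G, Full y ∧ ∀ i j, root7 i j = true → y i j = p i j := by
  obtain ⟨⟨ps, pc, pb⟩, pw12, pw23, -, -, -⟩ := hp
  obtain ⟨qr, qw12, qw23, qb12, qb23, qbr⟩ := hq
  obtain ⟨qs, qc, -⟩ := id qr
  obtain ⟨fs, fc, fb⟩ := rels_flip root3_flip qr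
  let t : G := w q 2 3 * p 3 1 * w q 2 3
  let y : Fin 4 → Fin 4 → G := fun i j =>
    if j = 0 then (if i = 3 then t else flipF q i j) else p i j
  have y9 : ∀ i j, root9 i j = true → y i j = p i j := by
    intro i j hij
    have : j ≠ 0 := (of_decide_eq_true hij).2
    show (if j = 0 then _ else p i j) = p i j
    rw [if_neg this]
  have y3 : ∀ i j, root3 i j = true → y i j = flipF q i j := by
    intro i j hij
    obtain ⟨hne, hi⟩ := of_decide_eq_true hij
    show (if j = 0 then (if i = 3 then t else flipF q i j) else p i j) = flipF q i j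
    by_cases hj : j = 0
    · rw [if_pos hj, if_neg hi]
    · rw [if_neg hj]
      exact (hpq i j (decide_eq_true ⟨hne, hj, hi⟩)).symm
  have ysq9 : ∀ i j, root9 i j = true → y i j * y i j = 1 := fun i j h => by
    rw [y9 i j h]; exact ps i j h
  -- monomial elements
  set A := w q 2 3 with hA
  set B := w p 1 2 with hB
  set D := w p 2 3 with hD
  have A2 : A * A = 1 := w_sq (qs 2 3 rfl) (qs 3 2 rfl)
  have B2 : B * B = 1 := w_sq (ps 1 2 rfl) (ps 2 1 rfl)
  have D2 : D * D = 1 := w_sq (ps 2 3 rfl) (ps 3 2 rfl)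
  have hBq : B = w q 1 2 := by
    show p 1 2 * p 2 1 * p 1 2 = q 1 2 * q 2 1 * q 1 2
    rw [← hpq 1 2 rfl, ← hpq 2 1 rfl]
    rfl
  have hBA : B * A * B = A * B * A := by rw [hBq]; exact qbr
  have q23 : q 2 3 = p 0 1 := hpq 0 1 rfl
  have hrev : ∀ i j : Fin 4, (j.rev).rev = j ∧ (i.rev).rev = i := by decide
  have pX : ∀ i j, root7 i j = true → q j.rev i.rev = p i j := hpq
  have A32 : A * p 3 2 * A = p 3 2 := by
    have k1 : p 3 2 * q 2 3 = q 2 3 * p 3 2 := by
      rw [q23]; exact pc 3 2 rfl 0 1 rfl (by decide) (by decide)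
    have : p 3 2 * A = A * p 3 2 := by
      show p 3 2 * (q 2 3 * q 3 2 * q 2 3) = _
      rw [← mul_assoc, ← mul_assoc, k1, mul_assoc (q 2 3), hc, ← mul_assoc, mul_assoc _ (p 3 2), k1]
      simp only [hA, w, mul_assoc]
    rw [← this, mul_assoc, A2, mul_one]
  have hAD : A * D = D * A := by
    have e23 : p 2 3 = q 0 1 := (hpq 2 3 rfl).symm
    have k1 : p 2 3 * q 2 3 = q 2 3 * p 2 3 := by
      rw [e23]; exact qc 0 1 rfl 2 3 rfl (by decide) (by decide)
    have k2 : p 2 3 * q 3 2 = q 3 2 * p 2 3 := by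
      rw [e23]; exact qc 0 1 rfl 3 2 rfl (by decide) (by decide)
    have k3 : p 3 2 * q 2 3 = q 2 3 * p 3 2 := by
      rw [q23]; exact pc 3 2 rfl 0 1 rfl (by decide) (by decide)
    have c1 : Commute (p 2 3) A := (Commute.mul_right (Commute.mul_right k1 k2) k1)
    have c2 : Commute (p 3 2) A := (Commute.mul_right (Commute.mul_right k3 hc) k3)
    exact (Commute.mul_left (Commute.mul_left c1 c2) c1).symm
  have S9 : ∀ i j, root9 i j = true →
      B * y i j * B = y (Equiv.swap 1 2 i) (Equiv.swap 1 2 j) ∧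
      D * y i j * D = y (Equiv.swap 2 3 i) (Equiv.swap 2 3 j) := by
    intro i j hij
    have h9 : ∀ i j, root9 i j = true →
        root9 (Equiv.swap 1 2 i) (Equiv.swap 1 2 j) = true ∧
        root9 (Equiv.swap 2 3 i) (Equiv.swap 2 3 j) = true := by decide
    rw [y9 i j hij, y9 _ _ (h9 i j hij).1, y9 _ _ (h9 i j hij).2]
    exact ⟨pw12 i j hij, pw23 i j hij⟩
  have S3 : ∀ i j, root3 i j = true →
      A * y i j * A = y (Equiv.swap 0 1 i) (Equiv.swap 0 1 j) ∧
      B * y i j * B = y (Equiv.swap 1 2 i) (Equiv.swap 1 2 j) := by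
    intro i j hij
    have h3 : ∀ i j, root3 i j = true →
        root3 (Equiv.swap 0 1 i) (Equiv.swap 0 1 j) = true ∧
        root3 (Equiv.swap 1 2 i) (Equiv.swap 1 2 j) = true := by decide
    have e01 : ∀ i : Fin 4, (Equiv.swap 0 1 i).rev = Equiv.swap 2 3 i.rev := by decide
    have e12 : ∀ i : Fin 4, (Equiv.swap 1 2 i).rev = Equiv.swap 1 2 i.rev := by decide
    rw [y3 i j hij, y3 _ _ (h3 i j hij).1, y3 _ _ (h3 i j hij).2]
    refine ⟨?_, ?_⟩
    · show A * q j.rev i.rev * A = q (Equiv.swap 0 1 j).rev (Equiv.swap 0 1 i).rev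
      rw [e01, e01]; exact qw23 _ _ (root3_flip i j hij)
    · show B * q j.rev i.rev * B = q (Equiv.swap 1 2 j).rev (Equiv.swap 1 2 i).rev
      rw [e12, e12, hBq]; exact qw12 _ _ (root3_flip i j hij)
  have yt : y 3 0 = t := rfl
  have y31 : y 3 1 = p 3 1 := rfl
  have y32 : y 3 2 = p 3 2 := rfl
  have tdef : A * y 3 1 * A = y 3 0 := rfl
  have fA : ∀ i j, i ≠ j → A * y i j * A = y (Equiv.swap 0 1 i) (Equiv.swap 0 1 j) := by
    intro i j hij
    by_cases h3 : root3 i j = true
    · exact (S3 i j h3).1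
    · fin_cases i <;> fin_cases j <;> first
        | exact absurd rfl hij
        | exact absurd rfl h3
        | exact tdef
        | exact A32
        | exact swap_conj A2 tdef
  have fB : ∀ i j, i ≠ j → B * y i j * B = y (Equiv.swap 1 2 i) (Equiv.swap 1 2 j) := by
    intro i j hij
    by_cases h3 : root3 i j = true
    · exact (S3 i j h3).2
    · by_cases h9 : root9 i j = true
      · exact (S9 i j h9).1
      · have e30 : y 3 1 = B * y 3 2 * B := ((S9 3 2 rfl).1).symm
        have : B * y 3 0 * B = y 3 0 := by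
          rw [← tdef, e30]
          calc B * (A * (B * y 3 2 * B) * A) * B
              = (B * A * B) * y 3 2 * (B * A * B) := by simp only [mul_assoc]
            _ = A * B * (A * y 3 2 * A) * (B * A) := by rw [hBA]; simp only [mul_assoc]
            _ = _ := by rw [y32, A32]; simp only [mul_assoc]
        fin_cases i <;> fin_cases j <;> first
          | exact absurd rfl hij
          | exact absurd rfl h3
          | exact absurd rfl h9
          | exact this
  have fD : ∀ i j, i ≠ j → D * y i j * D = y (Equiv.swap 2 3 i) (Equiv.swap 2 3 j) := by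
    intro i j hij
    by_cases h9 : root9 i j = true
    · exact (S9 i j h9).2
    · have d10 : D * y 1 0 * D = y 1 0 := by
        have e23 : p 2 3 = q 0 1 := (hpq 2 3 rfl).symm
        have k1 : Commute (p 2 3) (q 3 2) := by
          rw [e23]; exact qc 0 1 rfl 3 2 rfl (by decide) (by decide)
        have k2 : Commute (p 3 2) (q 3 2) := hc
        have : Commute D (q 3 2) := Commute.mul_left (Commute.mul_left k1 k2) k1
        show D * q 3 2 * D = q 3 2
        rw [this.eq, mul_assoc, D2, mul_one]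
      have d20 : D * y 2 0 * D = y 3 0 := by
        have e1' : y 2 0 = A * y 2 1 * A := (swap_conj A2 (S3 2 0 rfl).1).symm
        have e2' : D * y 2 1 * D = y 3 1 := (S9 2 1 rfl).2
        rw [e1', ← tdef, ← e2']
        calc D * (A * y 2 1 * A) * D = (D * A) * y 2 1 * (A * D) := by simp only [mul_assoc]
          _ = (A * D) * y 2 1 * (D * A) := by rw [hAD]
          _ = _ := by simp only [mul_assoc]
      fin_cases i <;> fin_cases j <;> first
        | exact absurd rfl hij
        | exact absurd rfl h9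
        | exact d10
        | exact d20
        | exact swap_conj D2 d20
  -- transport of each index to the first
  have tr3 : ∀ m : Fin 4, ∃ (W W' : G) (σ : Fin 4 → Fin 4), W' * W = 1 ∧ Function.Injective σ ∧
      σ m = 0 ∧ ∀ i j, i ≠ j → W * y i j * W' = y (σ i) (σ j) := by
    intro m
    fin_cases m
    · exact ⟨1, 1, id, one_mul 1, fun a b h => h, rfl, fun i j _ => by simp⟩
    · exact ⟨A, A, Equiv.swap 0 1, A2, Equiv.injective _, rfl, fA⟩
    · refine ⟨A * B, B * A, fun i => Equiv.swap 0 1 (Equiv.swap 1 2 i), ?_,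
        (Equiv.injective _).comp (Equiv.injective _), rfl, fun i j hij => ?_⟩
      · rw [mul_assoc, ← mul_assoc A A, A2, one_mul, B2]
      · rw [← fA _ _ (fun e => hij ((Equiv.injective _) e)), ← fB i j hij]
        simp only [mul_assoc]
    · refine ⟨A * B * D, D * B * A, fun i => Equiv.swap 0 1 (Equiv.swap 1 2 (Equiv.swap 2 3 i)),
        ?_, (Equiv.injective _).comp ((Equiv.injective _).comp (Equiv.injective _)), rfl,
        fun i j hij => ?_⟩
      · simp only [← mul_assoc]
        rw [mul_assoc (D * B) A A, A2, mul_one, mul_assoc D B B, B2, mul_one, D2]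
      · rw [← fA _ _ (fun e => hij ((Equiv.injective _) ((Equiv.injective _) e))),
          ← fB _ _ (fun e => hij ((Equiv.injective _) e)), ← fD i j hij]
        simp only [mul_assoc]
  have avoid : ∀ j l : Fin 4, ∃ m, m ≠ j ∧ m ≠ l := by decide
  have conjmul : ∀ {W W' : G}, W' * W = 1 → ∀ a b : G,
      W * (a * b) * W' = (W * a * W') * (W * b * W') := fun {W W'} hW a b => by
    calc W * (a * b) * W' = W * a * (W' * W) * b * W' := by rw [hW, mul_one]; simp only [mul_assoc]
      _ = _ := by simp only [mul_assoc]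
  have cancel : ∀ {W W' : G}, W' * W = 1 → ∀ a b : G, W * a * W' = W * b * W' → a = b :=
    fun hW a b h => mul_left_cancel (mul_right_cancel h)
  refine ⟨y, ⟨fun i j hij => ?_, fun i j k l hij hkl hil hjk => ?_, fun i j l hij hjl hil => ?_⟩,
    fun i j hij => y9 i j (by revert hij; revert i j; decide)⟩
  · obtain ⟨m, hm1, -⟩ := avoid j j
    obtain ⟨W, W', σ, hW, hσ, hm, ht⟩ := tr3 m
    refine cancel hW _ _ ?_
    rw [conjmul hW, ht i j hij, mul_one]
    have hW' : W * W' = 1 := by rw [mul_eq_one_iff_eq_inv, inv_eq_of_mul_eq_one_right hW]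
    rw [hW']
    exact ysq9 _ _ (decide_eq_true ⟨hσ.ne hij, hm ▸ hσ.ne hm1.symm⟩)
  · obtain ⟨m, hm1, hm2⟩ := avoid j l
    obtain ⟨W, W', σ, hW, hσ, hm, ht⟩ := tr3 m
    refine cancel hW _ _ ?_
    rw [conjmul hW, conjmul hW, ht i j hij, ht k l hkl]
    have r1 : root9 (σ i) (σ j) = true := decide_eq_true ⟨hσ.ne hij, hm ▸ hσ.ne hm1.symm⟩
    have r2 : root9 (σ k) (σ l) = true := decide_eq_true ⟨hσ.ne hkl, hm ▸ hσ.ne hm2.symm⟩
    rw [y9 _ _ r1, y9 _ _ r2]
    exact pc _ _ r1 _ _ r2 (hσ.ne hil) (hσ.ne hjk)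
  · obtain ⟨m, hm1, hm2⟩ := avoid j l
    obtain ⟨W, W', σ, hW, hσ, hm, ht⟩ := tr3 m
    refine cancel hW _ _ ?_
    rw [conjmul hW, conjmul hW, ht i j hij, ht j l hjl, ht i l hil]
    have r1 : root9 (σ i) (σ j) = true := decide_eq_true ⟨hσ.ne hij, hm ▸ hσ.ne hm1.symm⟩
    have r2 : root9 (σ j) (σ l) = true := decide_eq_true ⟨hσ.ne hjl, hm ▸ hσ.ne hm2.symm⟩
    have r3 : root9 (σ i) (σ l) = true := decide_eq_true ⟨hσ.ne hil, hm ▸ hσ.ne hm2.symm⟩
    rw [y9 _ _ r1, y9 _ _ r2, y9 _ _ r3]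
    exact pb _ _ r1 _ r2 r3

theorem RootConfig.exists_roots [Finite G] {s : G} (C : RootConfig G s) :
    ∃ y : Fin 4 → Fin 4 → G, Full y ∧ ∀ i j, root7 i j = true → y i j = C.r i j := by
  obtain ⟨p, q, hp, hq, hp7, hq7, hc⟩ := C.exists_pair
  have hh : ∀ i j, root7 i j = true → q j.rev i.rev = p i j := fun i j hij => by
    rw [hp7 i j hij, hq7 _ _ (root7_flip i j hij)]
    show C.r i.rev.rev j.rev.rev = C.r i j
    rw [Fin.rev_rev, Fin.rev_rev]
  obtain ⟨y, hy, hy7⟩ := exists_full hp hq hh hc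
  exact ⟨y, hy, fun i j hij => (hy7 i j hij).trans (hp7 i j hij)⟩

end Cfsg.Agent.S3344Id
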