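import Cfsg.Agent.Lib.S3344Id.Extend
import Cfsg.Agent.Lib.SLPres.Main
import Cfsg.Agent.Lib.GLFourTwo.Heptads
import Mathlib.GroupTheory.SpecificGroups.Alternating.Simple
import Mathlib.GroupTheory.Frattini

/-!
S3344: recognition of the alternating groups of degree eight and nine from root elements in the
centraliser of an involution.
-/

set_option autoImplicit false

namespace Cfsg.Agent.S3344Id

open scoped Pointwise commutatorElement

variable {G : Type*} [Group G]

/-- The Steinberg data of the root elements. -/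
def Full.data {y : Fin 4 → Fin 4 → G} (h : Full y) : SLPres.Data 4 (ZMod 2) G where
  y i j t := if t = 0 then 1 else y i j
  add i j hij t u := by
    have h2 : ∀ t : ZMod 2, t = 0 ∨ t = 1 := by decide
    rcases h2 t with rfl | rfl <;> rcases h2 u with rfl | rfl <;>
      simp [h.sq i j hij, show (1 : ZMod 2) + 1 = 0 from by decide]
  comm i j k l hij hkl hil hjk t u := by
    have h2 : ∀ t : ZMod 2, t = 0 ∨ t = 1 := by decide
    rcases h2 t with rfl | rfl <;> rcases h2 u with rfl | rfl <;> simp
    exact h.com i j k l hij hkl hil hjk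
  brac i j l hij hjl hil t u := by
    have h2 : ∀ t : ZMod 2, t = 0 ∨ t = 1 := by decide
    rcases h2 t with rfl | rfl <;> rcases h2 u with rfl | rfl <;> simp
    rw [commutatorElement_def, inv_eq_of_mul_eq_one_right (h.sq i j hij),
      inv_eq_of_mul_eq_one_right (h.sq j l hjl), mul_assoc (y i j * y j l), h.brac i j l hij hjl hil]

theorem exists_alt8 {y : Fin 4 → Fin 4 → G} (h : Full y) (hne : ∃ i j, i ≠ j ∧ y i j ≠ 1) :
    ∃ f : alternatingGroup (Fin 8) →* G, Function.Injective f ∧
      ∀ i j, i ≠ j → y i j ∈ f.range := by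
  haveI : Fact (Nat.Prime 2) := ⟨Nat.prime_two⟩
  obtain ⟨f0, hf0⟩ := SLPres.exists_hom_of_data h.data
  obtain ⟨π, hπ⟩ := SLPres.exists_toSL 4 (ZMod 2)
  let φ := MulEquiv.ofBijective π (SLPres.toSL_bijective 2 (by omega) π hπ)
  let f := f0.comp (φ.symm.toMonoidHom.comp GLFourTwo.slEquivAlt.symm.toMonoidHom)
  have hr : ∀ i j, i ≠ j → y i j ∈ f.range := fun i j hij => by
    refine ⟨GLFourTwo.slEquivAlt (φ (PresentedGroup.of (⟨(i, j), hij⟩, 1))), ?_⟩
    simp only [f, MonoidHom.comp_apply, MulEquiv.coe_toMonoidHom, MulEquiv.symm_apply_apply]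
    rw [hf0]
    show (if (1 : ZMod 2) = 0 then (1 : G) else y i j) = y i j
    exact if_neg one_ne_zero
  haveI : IsSimpleGroup (alternatingGroup (Fin 8)) := alternatingGroup.isSimpleGroup (by simp)
  refine ⟨f, ?_, hr⟩
  rw [← MonoidHom.ker_eq_bot_iff]
  rcases f.normal_ker.eq_bot_or_eq_top with hk | hk
  · exact hk
  · obtain ⟨i, j, hij, hy⟩ := hne
    obtain ⟨x, hx⟩ := hr i j hij
    exact absurd ((MonoidHom.mem_ker.1 (hk ▸ Subgroup.mem_top x)) ▸ hx).symm hy

namespace RootConfig

variable {s : G} (C : RootConfig G s)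
include C

theorem ne_one [Finite G] : C.r 0 3 ≠ 1 := by
  intro h1
  have := C.side.e_inj (a₁ := 4) (a₂ := 0) (by rw [Side.e_four, C.side.e_zero, h1])
  exact absurd this (by decide)

theorem exists_subgroup [Finite G] :
    ∃ f : alternatingGroup (Fin 8) →* G, Function.Injective f ∧
      Subgroup.centralizer ({s} : Set G) ≤ f.range := by
  obtain ⟨y, hy, hy7⟩ := C.exists_roots
  obtain ⟨f, hf, hfr⟩ := exists_alt8 hy
    ⟨0, 3, by decide, by rw [hy7 0 3 rfl]; exact C.ne_one⟩
  refine ⟨f, hf, C.gen.trans ((Subgroup.closure_le _).2 ?_)⟩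
  rintro x ⟨i, j, hij, rfl⟩
  rw [← hy7 i j hij]
  exact hfr i j (of_decide_eq_true hij).1

theorem card_alt8 : Nat.card (alternatingGroup (Fin 8)) = 20160 := by
  rw [nat_card_alternatingGroup, Nat.card_fin]
  decide

theorem iso_alt8 [Finite G] (hG : Nat.card G = 20160) :
    Nonempty (G ≃* alternatingGroup (Fin 8)) := by
  obtain ⟨f, hf, -⟩ := C.exists_subgroup
  exact ⟨(MulEquiv.ofBijective f ((Nat.bijective_iff_injective_and_card f).2
    ⟨hf, C.card_alt8.trans hG.symm⟩)).symm⟩

theorem card_upper [Finite G] :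
    Nat.card (Subgroup.closure {x | ∃ i j, root7 i j = true ∧ i < j ∧ C.r i j = x}) = 64 := by
  set B := Subgroup.closure {x | ∃ i j, root7 i j = true ∧ i < j ∧ C.r i j = x}
  have hm : ∀ i j, root7 i j = true → i < j → C.r i j ∈ B := fun i j hij hlt =>
    Subgroup.subset_closure ⟨i, j, hij, hlt, rfl⟩
  set A := Subgroup.closure ({C.r 1 2, C.r 2 3, C.r 1 3} : Set G) with hA
  have hA' : A ≤ Subgroup.normalizer (e1 C.r : Set G) := (Subgroup.closure_le _).2 (by
    rintro x (rfl | rfl | rfl) <;> exact C.side.seven_mem rfl)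
  have hle : B ≤ e1 C.r ⊔ A := (Subgroup.closure_le _).2 (by
    rintro x ⟨i, j, hij, hlt, rfl⟩
    have h1 : ∀ z ∈ ({C.r 0 1, C.r 0 2, C.r 0 3} : Set G), z ∈ e1 C.r ⊔ A := fun z hz =>
      Subgroup.mem_sup_left (Subgroup.subset_closure hz)
    have h2 : ∀ z ∈ ({C.r 1 2, C.r 2 3, C.r 1 3} : Set G), z ∈ e1 C.r ⊔ A := fun z hz =>
      Subgroup.mem_sup_right (Subgroup.subset_closure hz)
    fin_cases i <;> fin_cases j <;> first
      | exact absurd hij (by decide)
      | exact absurd hlt (by decide)
      | exact h1 _ (Or.inl rfl)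
      | exact h1 _ (Or.inr (Or.inl rfl))
      | exact h1 _ (Or.inr (Or.inr rfl))
      | exact h2 _ (Or.inl rfl)
      | exact h2 _ (Or.inr (Or.inl rfl))
      | exact h2 _ (Or.inr (Or.inr rfl)))
  let g : Fin 8 × Fin 8 → B := fun p => ⟨e C.r p.1 * wd C.r p.2,
    B.mul_mem
      (B.mul_mem (B.mul_mem (B.pow_mem (hm 0 1 rfl (by decide)) _)
        (B.pow_mem (hm 0 2 rfl (by decide)) _)) (B.pow_mem (hm 0 3 rfl (by decide)) _))
      (B.mul_mem (B.mul_mem (B.pow_mem (hm 1 2 rfl (by decide)) _)
        (B.pow_mem (hm 2 3 rfl (by decide)) _)) (B.pow_mem (hm 1 3 rfl (by decide)) _))⟩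
  have hg : Function.Bijective g := by
    constructor
    · rintro ⟨u, i⟩ ⟨v, j⟩ huv
      have huv' : e C.r u * wd C.r i = e C.r v * wd C.r j := congrArg Subtype.val huv
      obtain ⟨ha, hb, hc⟩ := C.side.act_uniq (C.side.act_mul (C.side.act_e u) (C.side.act_wd i))
        (huv' ▸ C.side.act_mul (C.side.act_e v) (C.side.act_wd j))
      have ij : i = j := wdA_inj i j
        ((lin_one _).symm.trans (ha.trans (lin_one _)))
        ((lin_one _).symm.trans (hb.trans (lin_one _)))
        ((lin_one _).symm.trans (hc.trans (lin_one _)))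
      subst ij
      rw [C.side.e_inj (mul_right_cancel huv')]
    · rintro ⟨x, hx⟩
      obtain ⟨k, hk, a, ha, rfl⟩ := (SolvBasic.mem_sup_iff_of_le_normalizer hA').1 (hle hx)
      obtain ⟨u, rfl⟩ := C.side.e_surj hk
      obtain ⟨i, rfl⟩ := C.side.closure_wd ha
      exact ⟨(u, i), rfl⟩
  rw [← Nat.card_eq_of_bijective g hg]
  simp

/-- Order `181440`: the action on the cosets of the subgroup of index nine. -/
theorem iso_alt9 [Finite G] (hG : Nat.card G = 181440) :
    Nonempty (G ≃* alternatingGroup (Fin 9)) := by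
  classical
  haveI : Fact (Nat.Prime 2) := ⟨Nat.prime_two⟩
  obtain ⟨f, hf, hC⟩ := C.exists_subgroup
  set H := f.range with hH
  let eH : alternatingGroup (Fin 8) ≃* H := MonoidHom.ofInjective hf
  have hcard : Nat.card H = 20160 := (Nat.card_congr eH.toEquiv).symm.trans C.card_alt8
  haveI : IsSimpleGroup (alternatingGroup (Fin 8)) := alternatingGroup.isSimpleGroup (by simp)
  haveI : IsSimpleGroup H := eH.symm.isSimpleGroup
  have hidx : H.index = 9 := by
    have := H.card_mul_index
    rw [hcard, hG] at this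
    omega
  -- the Sylow subgroup
  set B := Subgroup.closure {x | ∃ i j, root7 i j = true ∧ i < j ∧ C.r i j = x} with hB
  have hBC : B ≤ Subgroup.centralizer ({s} : Set G) := (Subgroup.closure_le _).2 (by
    rintro x ⟨i, j, hij, -, rfl⟩
    exact Subgroup.mem_centralizer_singleton_iff.2 (C.s_com hij).symm)
  have hnn : ¬ H.Normal := by
    intro hn
    have h64e : Nat.card B = 64 := C.card_upper
    let B' := B.subgroupOf H
    have hB' : Nat.card B' = 64 := by
      rw [Nat.card_congr (Subgroup.subgroupOfEquivOfLe (hBC.trans hC)).toEquiv, h64e]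
    have hfac : (20160 : ℕ).factorization 2 = 6 := by
      rw [show (20160 : ℕ) = 2 ^ 6 * 315 by norm_num,
        Nat.factorization_mul (by norm_num) (by norm_num), Finsupp.add_apply,
        Nat.Prime.factorization_pow Nat.prime_two, Finsupp.single_eq_same,
        Nat.factorization_eq_zero_of_not_dvd (by norm_num)]
    let P : Sylow 2 H := Sylow.ofCard B' (by rw [hB', hcard, hfac]; norm_num)
    have hfr := Sylow.normalizer_sup_eq_top P
    have hP : ((P : Subgroup H).map H.subtype : Subgroup G) = B := by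
      show B'.map H.subtype = B
      exact Subgroup.map_subgroupOf_eq_of_le (hBC.trans hC)
    rw [hP] at hfr
    have hNC : Subgroup.normalizer (B : Set G) ≤ Subgroup.centralizer ({s} : Set G) := by
      intro g hg
      have hsB : s ∈ B := by
        rw [← C.r_eq]
        exact Subgroup.subset_closure ⟨0, 3, rfl, by decide, rfl⟩
      have hcz : ∀ i j, root7 i j = true → i < j →
          g * s * g⁻¹ * C.r i j = C.r i j * (g * s * g⁻¹) := by
        intro i j hij hlt
        have hb : g⁻¹ * C.r i j * g ∈ B :=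
          (Subgroup.mem_normalizer_iff''.1 hg _).1 (Subgroup.subset_closure ⟨i, j, hij, hlt, rfl⟩)
        have := Subgroup.mem_centralizer_singleton_iff.1 (hBC hb)
        calc g * s * g⁻¹ * C.r i j = g * (s * (g⁻¹ * C.r i j * g)) * g⁻¹ := by group
          _ = g * (g⁻¹ * C.r i j * g * s) * g⁻¹ := by rw [this]
          _ = _ := by group
      rcases center_upper C.side hcz with h1 | h1
      · rw [conj_eq_one_iff] at h1
        exact absurd (C.r_eq.trans h1) C.ne_one
      · rw [C.r_eq] at h1
        exact Subgroup.mem_centralizer_singleton_iff.2 (mul_inv_eq_iff_eq_mul.1 h1)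
    have : H = ⊤ := by
      rw [eq_top_iff, ← hfr]
      exact sup_le (hNC.trans hC) le_rfl
    rw [this, Subgroup.index_top] at hidx
    omega
  have hcore : H.normalCore = ⊥ := by
    haveI : (H.normalCore.subgroupOf H).Normal := Subgroup.normal_subgroupOf
    rcases Subgroup.Normal.eq_bot_or_eq_top
      (inferInstance : (H.normalCore.subgroupOf H).Normal) with h1 | h1
    · rw [eq_bot_iff]
      intro x hx
      have : (⟨x, H.normalCore_le hx⟩ : H) ∈ H.normalCore.subgroupOf H := hx
      rw [h1, Subgroup.mem_bot] at this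
      exact Subgroup.mem_bot.2 (congrArg Subtype.val this)
    · rw [Subgroup.subgroupOf_eq_top] at h1
      exact absurd (le_antisymm H.normalCore_le h1 ▸ H.normalCore_normal) hnn
  have hinj : Function.Injective (MulAction.toPermHom G (G ⧸ H)) := by
    rw [← MonoidHom.ker_eq_bot_iff, ← Subgroup.normalCore_eq_ker, hcore]
  haveI : Fintype (G ⧸ H) := Fintype.ofFinite _
  have h9 : Fintype.card (G ⧸ H) = 9 := by
    rw [← Nat.card_eq_fintype_card]; exact hidx
  let e9 : Equiv.Perm (G ⧸ H) ≃* Equiv.Perm (Fin 9) :=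
    (Fintype.equivFinOfCardEq h9).permCongrHom
  let F := e9.toMonoidHom.comp (MulAction.toPermHom G (G ⧸ H))
  have hF : Function.Injective F := e9.injective.comp hinj
  have hFi : F.range.index = 2 := by
    have := F.range.card_mul_index
    rw [← Nat.card_congr (MonoidHom.ofInjective hF).toEquiv, hG, Nat.card_perm, Nat.card_fin,
      show Nat.factorial 9 = 362880 from rfl] at this
    omega
  exact ⟨(MonoidHom.ofInjective hF).trans
    (MulEquiv.subgroupCongr (Equiv.Perm.eq_alternatingGroup_of_index_eq_two hFi))⟩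

end RootConfig

end Cfsg.Agent.S3344Id
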