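import Mathlib.Data.Fintype.Card
import Mathlib.Data.Fintype.Prod
import Mathlib.Data.Fin.Basic
import Mathlib.Tactic.FinCases

/-!
S3344: the affine group of a space of dimension three over the field with two elements, and the
finite check on lifts of root elements.
-/

set_option autoImplicit false

namespace Cfsg.Agent.S3344Id

/-- An affine map of the space `Fin 8`: translation part and images of `1`, `2`, `4`. -/
structure Aff where
  d : Fin 8
  a : Fin 8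
  b : Fin 8
  c : Fin 8
deriving DecidableEq

/-- The linear part. -/
def lin (f : Aff) (v : Fin 8) : Fin 8 :=
  (if v.val % 2 = 1 then f.a else 0) ^^^ (if v.val / 2 % 2 = 1 then f.b else 0) ^^^
    (if v.val / 4 = 1 then f.c else 0)

instance : Mul Aff := ⟨fun f g => ⟨f.d ^^^ lin f g.d, lin f g.a, lin f g.b, lin f g.c⟩⟩

instance : One Aff := ⟨⟨0, 1, 2, 4⟩⟩

/-- Translation. -/
def tr (v : Fin 8) : Aff := ⟨v, 1, 2, 4⟩

/-- The linear part is injective. -/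
def Inj3 (a b c : Fin 8) : Prop := ∀ v : Fin 8, lin ⟨0, a, b, c⟩ v = 0 → v = 0

instance (a b c : Fin 8) : Decidable (Inj3 a b c) := by unfold Inj3; infer_instance

theorem card_inj3 :
    Fintype.card {t : Fin 8 × Fin 8 × Fin 8 // Inj3 t.1 t.2.1 t.2.2} = 168 := by
  decide +kernel

theorem lin_congr (f : Aff) (d : Fin 8) (v : Fin 8) : lin ⟨d, f.a, f.b, f.c⟩ v = lin f v := rfl

theorem lin_basis (f : Aff) : lin f 0 = 0 ∧ lin f 1 = f.a ∧ lin f 2 = f.b ∧ lin f 4 = f.c := by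
  obtain ⟨d, a, b, c⟩ := f
  have h : ∀ v : Fin 8, v ^^^ 0 = v ∧ 0 ^^^ v = v := by decide +kernel
  refine ⟨?_, ?_, ?_, ?_⟩ <;> simp [lin, h]

theorem lin_one : ∀ v : Fin 8, lin 1 v = v := by decide +kernel

theorem xor_bits : ∀ u v : Fin 8,
    (u ^^^ v).val % 2 = (u.val % 2 + v.val % 2) % 2 ∧
    (u ^^^ v).val / 2 % 2 = (u.val / 2 % 2 + v.val / 2 % 2) % 2 ∧
    (u ^^^ v).val / 4 = (u.val / 4 + v.val / 4) % 2 := by decide +kernel

/-- Root pairs of the stabiliser of a point and a plane. -/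
def root7 (i j : Fin 4) : Bool := decide (i ≠ j ∧ j ≠ 0 ∧ i ≠ 3)

/-- Root pairs of the stabiliser of a point. -/
def root9 (i j : Fin 4) : Bool := decide (i ≠ j ∧ j ≠ 0)

/-- Root pairs of the stabiliser of a plane. -/
def root3 (i j : Fin 4) : Bool := decide (i ≠ j ∧ i ≠ 3)

/-- The Steinberg relations over the field with two elements. -/
def Rels {M : Type*} [Mul M] [One M] (S : Fin 4 → Fin 4 → Bool) (y : Fin 4 → Fin 4 → M) : Prop :=
  (∀ i j, S i j = true → y i j * y i j = 1) ∧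
  (∀ i j, S i j = true → ∀ k l, S k l = true → i ≠ l → j ≠ k →
    y i j * y k l = y k l * y i j) ∧
  (∀ i j, S i j = true → ∀ l, S j l = true → S i l = true →
    y i j * y j l * (y i j * y j l) = y i l)

/-- The monomial element of a root pair. -/
def w {M : Type*} [Mul M] (y : Fin 4 → Fin 4 → M) (a b : Fin 4) : M := y a b * y b a * y a b

/-- Conjugation by the monomial element of `a`, `b` interchanges the indices. -/
def Swap {M : Type*} [Mul M] (S : Fin 4 → Fin 4 → Bool) (y : Fin 4 → Fin 4 → M) (a b : Fin 4) :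
    Prop :=
  ∀ i j, S i j = true → w y a b * y i j * w y a b = y (Equiv.swap a b i) (Equiv.swap a b j)

/-- What is used about the root elements of the stabiliser of a point. -/
def Wing {M : Type*} [Mul M] [One M] (y : Fin 4 → Fin 4 → M) : Prop :=
  Rels root9 y ∧ Swap root9 y 1 2 ∧ Swap root9 y 2 3 ∧ w y 1 2 = w y 2 1 ∧ w y 2 3 = w y 3 2 ∧
    w y 1 2 * w y 2 3 * w y 1 2 = w y 2 3 * w y 1 2 * w y 2 3

instance {M : Type*} [Mul M] [One M] [DecidableEq M] (S : Fin 4 → Fin 4 → Bool)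
    (y : Fin 4 → Fin 4 → M) : Decidable (Rels S y) := by unfold Rels; infer_instance

instance {M : Type*} [Mul M] [DecidableEq M] (S : Fin 4 → Fin 4 → Bool)
    (y : Fin 4 → Fin 4 → M) (a b : Fin 4) : Decidable (Swap S y a b) := by
  unfold Swap; infer_instance

instance {M : Type*} [Mul M] [One M] [DecidableEq M] (y : Fin 4 → Fin 4 → M) :
    Decidable (Wing y) := by unfold Wing; infer_instance

/-- The affine lifts of the root elements, with free translation parts. -/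
def zfam (a b c x : Fin 8) (i j : Fin 4) : Aff :=
  match i.val, j.val with
  | 0, 1 => tr 1
  | 0, 2 => tr 2
  | 0, 3 => tr 4
  | 1, 2 => ⟨a, 3, 2, 4⟩
  | 2, 1 => ⟨b, 1, 3, 4⟩
  | 2, 3 => ⟨c, 1, 6, 4⟩
  | 1, 3 => ⟨a, 3, 2, 4⟩ * ⟨c, 1, 6, 4⟩ * (⟨a, 3, 2, 4⟩ * ⟨c, 1, 6, 4⟩)
  | 3, 2 => ⟨x, 1, 2, 6⟩
  | 3, 1 => ⟨x, 1, 2, 6⟩ * ⟨b, 1, 3, 4⟩ * (⟨x, 1, 2, 6⟩ * ⟨b, 1, 3, 4⟩)
  | _, _ => 1

/-- The centraliser of the four roots and of the involution `(3, 2)`. -/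
def CentProp (z : Fin 4 → Fin 4 → Aff) : Prop :=
  ∀ d p : Fin 8,
    (⟨d, p, 2, 4⟩ : Aff) * z 0 2 = z 0 2 * ⟨d, p, 2, 4⟩ →
    (⟨d, p, 2, 4⟩ : Aff) * z 0 3 = z 0 3 * ⟨d, p, 2, 4⟩ →
    (⟨d, p, 2, 4⟩ : Aff) * z 1 2 = z 1 2 * ⟨d, p, 2, 4⟩ →
    (⟨d, p, 2, 4⟩ : Aff) * z 1 3 = z 1 3 * ⟨d, p, 2, 4⟩ →
    z 3 2 * ⟨d, p, 2, 4⟩ * (z 3 2 * ⟨d, p, 2, 4⟩) = 1 →
    (⟨d, p, 2, 4⟩ : Aff) = 1 ∨ (⟨d, p, 2, 4⟩ : Aff) = z 0 2 ∨ (⟨d, p, 2, 4⟩ : Aff) = z 1 2 ∨
      (⟨d, p, 2, 4⟩ : Aff) = z 0 2 * z 1 2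

instance (z : Fin 4 → Fin 4 → Aff) : Decidable (CentProp z) := by
  unfold CentProp; infer_instance

/-- Conjugating elements for the bad lifts. -/
def witnesses : List Aff := [⟨1, 1, 6, 2⟩, ⟨0, 2, 4, 1⟩, ⟨2, 2, 4, 1⟩]

theorem witnesses_inj : ∀ g ∈ witnesses, Inj3 g.a g.b g.c := by decide +kernel

theorem check : ∀ a b c : Fin 8,
    Rels root7 (zfam a b c 0) →
    (∃ x : Fin 8, Wing (zfam a b c x) ∧ CentProp (zfam a b c x)) ∨
    (∃ g ∈ witnesses,
      g * (zfam a b c 0 0 2 * zfam a b c 0 1 3) = zfam a b c 0 1 2 * g ∨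
      g * (zfam a b c 0 0 2 * zfam a b c 0 1 3) = zfam a b c 0 2 1 * g) := by
  decide +kernel

theorem zfam_seven (a b c x : Fin 8) : ∀ i j, root7 i j = true →
    zfam a b c x i j = zfam a b c 0 i j := by
  intro i j h
  fin_cases i <;> fin_cases j <;> first | exact absurd h (by decide) | rfl

end Cfsg.Agent.S3344Id
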