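import Cfsg.Agent.Lib.S3344Id.Extend
import Cfsg.Agent.Lib.S3Extra.Table

/-!
S3344: the root elements in terms of the seven generators of the centraliser.
-/

set_option autoImplicit false

namespace Cfsg.Agent.S3344Id

variable {G : Type*} [Group G]

/-- The root elements from the generators. -/
def ofGens (P : S3Extra.Gens G) : Fin 4 → Fin 4 → G :=
  fam7 P.a₀ P.a₁ P.s (P.u * P.x) P.b₁ P.b₀ P.u

/-- Their indices in the table. -/
def idx (i j : Fin 4) : ℕ :=
  match i.val, j.val with
  | 0, 1 => 2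
  | 0, 2 => 4
  | 0, 3 => 1
  | 1, 2 => S3Extra.T false 32 64
  | 1, 3 => 16
  | 2, 3 => 8
  | 2, 1 => 32
  | _, _ => 0

theorem idx_rels :
    (∀ i j, root7 i j = true →
      idx i j < 192 ∧ S3Extra.T false (idx i j) (idx i j) = 0) ∧
    (∀ i j, root7 i j = true → ∀ k l, root7 k l = true → i ≠ l → j ≠ k →
      S3Extra.T false (idx i j) (idx k l) = S3Extra.T false (idx k l) (idx i j)) ∧
    (∀ i j, root7 i j = true → ∀ l, root7 j l = true → root7 i l = true →
      S3Extra.T false (S3Extra.T false (idx i j) (idx j l))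
        (S3Extra.T false (idx i j) (idx j l)) = idx i l) := by
  decide +kernel

theorem el_idx {P : S3Extra.Gens G} (R : S3Extra.Rels P false) :
    ∀ i j, root7 i j = true → P.el (idx i j) = ofGens P i j := by
  have e32 : P.el 32 = P.u := by
    show P.W (S3Extra.dec 32) = _
    rw [show S3Extra.dec 32 = (false, false, false, false, false, true, 0) by decide +kernel]
    simp [S3Extra.Gens.W]
  have e64 : P.el 64 = P.x := by
    show P.W (S3Extra.dec 64) = _
    rw [show S3Extra.dec 64 = (false, false, false, false, false, false, 1) by decide +kernel]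
    simp [S3Extra.Gens.W]
  intro i j hij
  fin_cases i <;> fin_cases j <;> first | exact absurd hij (by decide) | skip
  · show P.W (S3Extra.dec 2) = P.a₀
    rw [show S3Extra.dec 2 = (false, true, false, false, false, false, 0) by decide +kernel]
    simp [S3Extra.Gens.W]
  · show P.W (S3Extra.dec 4) = P.a₁
    rw [show S3Extra.dec 4 = (false, false, true, false, false, false, 0) by decide +kernel]
    simp [S3Extra.Gens.W]
  · show P.W (S3Extra.dec 1) = P.s
    rw [show S3Extra.dec 1 = (true, false, false, false, false, false, 0) by decide +kernel]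
    simp [S3Extra.Gens.W]
  · show P.el (S3Extra.T false 32 64) = P.u * P.x
    rw [← (R.el_mul (i := 32) (j := 64) (by decide)).1, e32, e64]
  · show P.W (S3Extra.dec 16) = P.b₁
    rw [show S3Extra.dec 16 = (false, false, false, false, true, false, 0) by decide +kernel]
    simp [S3Extra.Gens.W]
  · exact e32
  · show P.W (S3Extra.dec 8) = P.b₀
    rw [show S3Extra.dec 8 = (false, false, false, true, false, false, 0) by decide +kernel]
    simp [S3Extra.Gens.W]

theorem rels_ofGens {P : S3Extra.Gens G} (R : S3Extra.Rels P false) : Rels root7 (ofGens P) := by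
  obtain ⟨h1, h2, h3⟩ := idx_rels
  have hm : ∀ {a b : ℕ}, b < 192 → P.el a * P.el b = P.el (S3Extra.T false a b) := fun hb =>
    (R.el_mul hb).1
  refine ⟨fun i j hij => ?_, fun i j hij k l hkl hil hjk => ?_, fun i j hij l hjl hil => ?_⟩
  · rw [← el_idx R i j hij, hm (h1 i j hij).1, (h1 i j hij).2, R.el_zero]
  · rw [← el_idx R i j hij, ← el_idx R k l hkl, hm (h1 k l hkl).1, hm (h1 i j hij).1,
      h2 i j hij k l hkl hil hjk]
  · rw [← el_idx R i j hij, ← el_idx R j l hjl, ← el_idx R i l hil, hm (h1 j l hjl).1,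
      hm (R.el_mul (h1 j l hjl).1).2, h3 i j hij l hjl hil]

theorem closure_ofGens (P : S3Extra.Gens G) :
    Subgroup.closure ({P.s, P.a₀, P.a₁, P.b₀, P.b₁, P.u, P.x} : Set G) ≤
      Subgroup.closure {x | ∃ i j, root7 i j = true ∧ ofGens P i j = x} := by
  have hm : ∀ i j, root7 i j = true →
      ofGens P i j ∈ Subgroup.closure {x | ∃ i j, root7 i j = true ∧ ofGens P i j = x} :=
    fun i j hij => Subgroup.subset_closure ⟨i, j, hij, rfl⟩
  refine (Subgroup.closure_le _).2 ?_
  rintro x (rfl | rfl | rfl | rfl | rfl | rfl | rfl)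
  · exact hm 0 3 rfl
  · exact hm 0 1 rfl
  · exact hm 0 2 rfl
  · exact hm 2 3 rfl
  · exact hm 1 3 rfl
  · exact hm 2 1 rfl
  · have := mul_mem (inv_mem (hm 2 1 rfl)) (hm 1 2 rfl)
    show P.x ∈ Subgroup.closure _
    rwa [show (ofGens P 2 1)⁻¹ * ofGens P 1 2 = P.x from inv_mul_cancel_left P.u P.x] at this

theorem el_mem_closure (P : S3Extra.Gens G) (i : ℕ) :
    P.el i ∈ Subgroup.closure {x | ∃ i j, root7 i j = true ∧ ofGens P i j = x} := by
  refine closure_ofGens P ?_
  have hm : ∀ g ∈ ({P.s, P.a₀, P.a₁, P.b₀, P.b₁, P.u, P.x} : Set G), ∀ c : Bool,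
      cond c g 1 ∈ Subgroup.closure ({P.s, P.a₀, P.a₁, P.b₀, P.b₁, P.u, P.x} : Set G) := by
    intro g hg c
    cases c
    · exact one_mem _
    · exact Subgroup.subset_closure hg
  show P.W (S3Extra.dec i) ∈ _
  obtain ⟨e, p, q, m, n, l, k⟩ := S3Extra.dec i
  exact mul_mem (mul_mem (mul_mem (hm _ (by simp) e) (mul_mem (hm _ (by simp) p) (hm _ (by simp) q)))
    (mul_mem (hm _ (by simp) m) (hm _ (by simp) n)))
    (mul_mem (hm _ (by simp) l) (pow_mem (Subgroup.subset_closure (by simp)) k))

theorem e1_ofGens (P : S3Extra.Gens G) :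
    e1 (ofGens P) = Subgroup.closure {P.a₀, P.a₁, P.s} ∧
      e1 (flipF (ofGens P)) = Subgroup.closure {P.b₀, P.b₁, P.s} :=
  ⟨rfl, rfl⟩

/-- The configuration from a frame of the first type. -/
def RootConfig.ofGens {P : S3Extra.Gens G} (R : S3Extra.Rels P false)
    (hmem : ∀ y, y * P.s = P.s * y → ∃ i < 192, P.el i = y)
    (cent1 : Subgroup.centralizer (Subgroup.closure {P.a₀, P.a₁, P.s} : Set G) ≤
      Subgroup.closure {P.a₀, P.a₁, P.s})
    (cent3 : Subgroup.centralizer (Subgroup.closure {P.b₀, P.b₁, P.s} : Set G) ≤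
      Subgroup.closure {P.b₀, P.b₁, P.s})
    (norm1 : Nat.card (Subgroup.normalizer (Subgroup.closure {P.a₀, P.a₁, P.s} : Set G)) = 1344)
    (norm3 : Nat.card (Subgroup.normalizer (Subgroup.closure {P.b₀, P.b₁, P.s} : Set G)) = 1344)
    (nc1 : ¬ IsConj (P.a₁ * P.b₁) (P.u * P.x)) (nc2 : ¬ IsConj (P.a₁ * P.b₁) P.u) :
    RootConfig G P.s where
  r := S3344Id.ofGens P
  r_eq := rfl
  rels := rels_ofGens R
  gen y hy := by
    obtain ⟨i, -, rfl⟩ := hmem y (Subgroup.mem_centralizer_singleton_iff.1 hy)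
    exact el_mem_closure P i
  cent1 := cent1
  cent3 := cent3
  norm1 := norm1
  norm3 := norm3
  nc1 := nc1
  nc2 := nc2

end Cfsg.Agent.S3344Id
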