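import Cfsg.Agent.Lib.S3344Id.Side
import Mathlib.Algebra.Group.End

/-!
S3344: root elements of the normaliser of an elementary abelian subgroup of order eight.
-/

set_option autoImplicit false

namespace Cfsg.Agent.S3344Id

variable {G : Type*} [Group G]

/-- `n` is the affine map `f`, `K` being the stabiliser of the origin. -/
def Rep (r : Fin 4 → Fin 4 → G) (K : Subgroup G) (n : G) (f : Aff) : Prop :=
  e r f.d * n ∈ K ∧ Act r n f

/-- A complement of the first row in its normaliser. -/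
structure IsCompl8 (r : Fin 4 → Fin 4 → G) (K : Subgroup G) : Prop where
  le : K ≤ Subgroup.normalizer (e1 r : Set G)
  disj : e1 r ⊓ K = ⊥
  cover : ∀ n ∈ Subgroup.normalizer (e1 r : Set G), ∃ v, e r v * n ∈ K

theorem Aff.ext' {f g : Aff} (h1 : f.d = g.d) (h2 : f.a = g.a) (h3 : f.b = g.b) (h4 : f.c = g.c) :
    f = g := by
  obtain ⟨d, a, b, c⟩ := f
  obtain ⟨d', a', b', c'⟩ := g
  subst h1; subst h2; subst h3; subst h4
  rfl

namespace Rep

variable {r : Fin 4 → Fin 4 → G} {K : Subgroup G}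

theorem mem (h : Side r) (hK : IsCompl8 r K) {n : G} {f : Aff} (hn : Rep r K n f) :
    n ∈ Subgroup.normalizer (e1 r : Set G) := by
  have : n = e r f.d * (e r f.d * n) := by rw [← mul_assoc, h.e_sq, one_mul]
  rw [this]
  exact mul_mem (h.e1_le_norm (Side.e_mem _)) (hK.le hn.1)

theorem uniq [Finite G] (h : Side r) (hK : IsCompl8 r K) {n : G} {f g : Aff} (hf : Rep r K n f)
    (hg : Rep r K n g) : f = g := by
  obtain ⟨ha, hb, hc⟩ := h.act_uniq hf.2 hg.2
  refine Aff.ext' (h.e_inj ?_) ha hb hc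
  have h1 : e r f.d * n * (e r g.d * n)⁻¹ ∈ e1 r ⊓ K := by
    refine ⟨?_, K.mul_mem hf.1 (K.inv_mem hg.1)⟩
    rw [mul_inv_rev, mul_assoc, mul_inv_cancel_left]
    exact (e1 r).mul_mem (Side.e_mem _) ((e1 r).inv_mem (Side.e_mem _))
  rw [hK.disj, Subgroup.mem_bot, mul_inv_eq_one] at h1
  exact mul_right_cancel h1

theorem inj (h : Side r) (hK : IsCompl8 r K) {n m : G} {f : Aff}
    (hn : Rep r K n f) (hm : Rep r K m f) : n = m := by
  have hk : (e r f.d * n)⁻¹ * (e r f.d * m) ∈ e1 r ⊓ K := by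
    refine ⟨h.cent (Subgroup.mem_centralizer_iff.2 fun x hx => ?_),
      K.mul_mem (K.inv_mem hn.1) hm.1⟩
    obtain ⟨v, rfl⟩ := h.e_surj hx
    have e' : n * e r v * n⁻¹ = m * e r v * m⁻¹ := (hn.2 v).trans (hm.2 v).symm
    rw [mul_inv_rev, mul_assoc, inv_mul_cancel_left]
    calc e r v * (n⁻¹ * m) = n⁻¹ * (n * e r v * n⁻¹) * m := by group
      _ = n⁻¹ * (m * e r v * m⁻¹) * m := by rw [e']
      _ = _ := by group
  rw [hK.disj, Subgroup.mem_bot, inv_mul_eq_one] at hk
  exact mul_left_cancel hk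

theorem mul (h : Side r) {n m : G} {f g : Aff} (hn : Rep r K n f) (hm : Rep r K m g) :
    Rep r K (n * m) (f * g) := by
  refine ⟨?_, h.act_mul hn.2 hm.2⟩
  show e r (f.d ^^^ lin f g.d) * (n * m) ∈ K
  rw [h.e_xor, ← hn.2 g.d,
    show e r f.d * (n * e r g.d * n⁻¹) * (n * m) = e r f.d * n * (e r g.d * m) by group]
  exact mul_mem hn.1 hm.1

theorem one (h : Side r) : Rep r K 1 1 :=
  ⟨by rw [mul_one, show (1 : Aff).d = 0 from rfl, h.e_zero]; exact K.one_mem, h.act_one⟩

theorem trans (h : Side r) (v : Fin 8) : Rep r K (e r v) (tr v) :=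
  ⟨by rw [show (tr v).d = v from rfl, h.e_sq]; exact K.one_mem, h.act_e v⟩

theorem exists_of_act (hK : IsCompl8 r K) {n : G} {f : Aff}
    (hn : n ∈ Subgroup.normalizer (e1 r : Set G)) (hf : Act r n f) :
    ∃ d, Rep r K n ⟨d, f.a, f.b, f.c⟩ := by
  obtain ⟨v, hv⟩ := hK.cover n hn
  exact ⟨v, hv, hf⟩

theorem exists_rep (h : Side r) (hK : IsCompl8 r K) {n : G}
    (hn : n ∈ Subgroup.normalizer (e1 r : Set G)) : ∃ f, Rep r K n f := by
  obtain ⟨f, hf⟩ := h.act_exists hn
  obtain ⟨d, hd⟩ := exists_of_act hK hn hf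
  exact ⟨_, hd⟩

theorem surj [Finite G] (h : Side r) (hK : IsCompl8 r K) (d a b c : Fin 8) (hi : Inj3 a b c) :
    ∃ n, Rep r K n ⟨d, a, b, c⟩ := by
  classical
  let N := Subgroup.normalizer (e1 r : Set G)
  let T := {t : Fin 8 × Fin 8 × Fin 8 // Inj3 t.1 t.2.1 t.2.2}
  have c' : ∀ n : N, ∃ f, Rep r K (n : G) f := fun n => exists_rep h hK n.2
  choose F hF using c'
  let φ : N → Fin 8 × T := fun n =>
    ((F n).d, ⟨((F n).a, (F n).b, (F n).c), h.act_inj (hF n).2⟩)
  have hφ : Function.Injective φ := by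
    intro n m hnm
    have h1 : (F n).d = (F m).d := congrArg Prod.fst hnm
    have h2 : (F n).a = (F m).a := congrArg (fun p : Fin 8 × T => p.2.1.1) hnm
    have h3 : (F n).b = (F m).b := congrArg (fun p : Fin 8 × T => p.2.1.2.1) hnm
    have h4 : (F n).c = (F m).c := congrArg (fun p : Fin 8 × T => p.2.1.2.2) hnm
    exact Subtype.ext (inj h hK (Aff.ext' h1 h2 h3 h4 ▸ hF n) (hF m))
  have hb : Function.Bijective φ := (Nat.bijective_iff_injective_and_card _).2 ⟨hφ, by
    rw [show Nat.card N = 1344 from h.norm, Nat.card_prod, Nat.card_fin,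
      Nat.card_eq_fintype_card, card_inj3]⟩
  obtain ⟨n, hn⟩ := hb.2 (d, ⟨(a, b, c), hi⟩)
  have h1 : (F n).d = d := congrArg Prod.fst hn
  have h2 : (F n).a = a := congrArg (fun p : Fin 8 × T => p.2.1.1) hn
  have h3 : (F n).b = b := congrArg (fun p : Fin 8 × T => p.2.1.2.1) hn
  have h4 : (F n).c = c := congrArg (fun p : Fin 8 × T => p.2.1.2.2) hn
  exact ⟨n, (Aff.ext' (g := ⟨d, a, b, c⟩) h1 h2 h3 h4) ▸ hF n⟩

end Rep

/-- Relations pass along a representation. -/
theorem wing_of_rep [Finite G] {r : Fin 4 → Fin 4 → G} {K : Subgroup G} (h : Side r)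
    (hK : IsCompl8 r K) {y : Fin 4 → Fin 4 → G} {z : Fin 4 → Fin 4 → Aff}
    (hy : ∀ i j, root9 i j = true → Rep r K (y i j) (z i j)) (hz : Wing z) : Wing y := by
  obtain ⟨⟨z1, z2, z3⟩, zs1, zs2, zb1, zb2, zbr⟩ := hz
  have m : ∀ {n p : G} {f g : Aff}, Rep r K n f → Rep r K p g → Rep r K (n * p) (f * g) :=
    fun hn hp => Rep.mul h hn hp
  have eq : ∀ {n p : G} {f g : Aff}, Rep r K n f → Rep r K p g → f = g → n = p :=
    fun hn hp e' => Rep.inj h hK hn (e' ▸ hp)
  have hw : ∀ a b : Fin 4, root9 a b = true → root9 b a = true →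
      Rep r K (w y a b) (w z a b) := fun a b h1 h2 => m (m (hy a b h1) (hy b a h2)) (hy a b h1)
  have w12 := hw 1 2 rfl rfl
  have w21 := hw 2 1 rfl rfl
  have w23 := hw 2 3 rfl rfl
  have w32 := hw 3 2 rfl rfl
  refine ⟨⟨fun i j hij => eq (m (hy i j hij) (hy i j hij)) (Rep.one h) (z1 i j hij),
    fun i j hij k l hkl e1' e2' =>
      eq (m (hy i j hij) (hy k l hkl)) (m (hy k l hkl) (hy i j hij)) (z2 i j hij k l hkl e1' e2'),
    fun i j hij l hjl hil => eq (m (m (hy i j hij) (hy j l hjl)) (m (hy i j hij) (hy j l hjl)))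
      (hy i l hil) (z3 i j hij l hjl hil)⟩, ?_, ?_, eq w12 w21 zb1, eq w23 w32 zb2,
    eq (m (m w12 w23) w12) (m (m w23 w12) w23) zbr⟩
  · intro i j hij
    exact eq (m (m w12 (hy i j hij)) w12) (hy _ _ (by revert hij; revert i j; decide)) (zs1 i j hij)
  · intro i j hij
    exact eq (m (m w23 (hy i j hij)) w23) (hy _ _ (by revert hij; revert i j; decide)) (zs2 i j hij)

/-- The centraliser of four roots inverted by `(3, 2)`. -/
def CentG (r y : Fin 4 → Fin 4 → G) : Prop :=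
  ∀ g ∈ Subgroup.normalizer (e1 r : Set G), g * y 0 2 = y 0 2 * g → g * y 0 3 = y 0 3 * g →
    g * y 1 2 = y 1 2 * g → g * y 1 3 = y 1 3 * g → y 3 2 * g * (y 3 2 * g) = 1 →
    g = 1 ∨ g = y 0 2 ∨ g = y 1 2 ∨ g = y 0 2 * y 1 2

theorem exists_point [Finite G] {r : Fin 4 → Fin 4 → G} (h : Side r)
    (nc1 : ¬ IsConj (r 0 2 * r 1 3) (r 1 2)) (nc2 : ¬ IsConj (r 0 2 * r 1 3) (r 2 1)) :
    ∃ y, Wing y ∧ (∀ i j, root7 i j = true → y i j = r i j) ∧ CentG r y := by
  obtain ⟨K, k1, k2, k3⟩ := h.exists_complement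
  have hK : IsCompl8 r K := ⟨k1, k2, k3⟩
  obtain ⟨a, ha⟩ := Rep.exists_of_act hK (h.seven_mem (i := 1) (j := 2) rfl) h.act12
  obtain ⟨b, hb⟩ := Rep.exists_of_act hK (h.seven_mem (i := 2) (j := 1) rfl) h.act21
  obtain ⟨c, hc⟩ := Rep.exists_of_act hK (h.seven_mem (i := 2) (j := 3) rfl) h.act23
  have h13 := Rep.mul h (Rep.mul h ha hc) (Rep.mul h ha hc)
  rw [h.brac (i := 1) (j := 2) (l := 3) rfl rfl rfl] at h13
  have t1 : Rep r K (r 0 1) (tr 1) := Side.e_one (r := r) ▸ Rep.trans h 1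
  have t2 : Rep r K (r 0 2) (tr 2) := Side.e_two (r := r) ▸ Rep.trans h 2
  have t4 : Rep r K (r 0 3) (tr 4) := Side.e_four (r := r) ▸ Rep.trans h 4
  have h7 : ∀ x i j, root7 i j = true → Rep r K (r i j) (zfam a b c x i j) := by
    intro x i j hij
    fin_cases i <;> fin_cases j <;> first
      | exact absurd hij (by decide)
      | exact t1 | exact t2 | exact t4 | exact ha | exact hb | exact hc | exact h13
  have eq : ∀ {n p : G} {f g : Aff}, Rep r K n f → Rep r K p g → f = g → n = p :=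
    fun hn hp e' => Rep.inj h hK hn (e' ▸ hp)
  have hu := fun {n p : G} {f g : Aff} (hn : Rep r K n f) (hp : Rep r K p g) (e' : n = p) =>
    Rep.uniq h hK hn (e' ▸ hp)
  have hz : Rels root7 (zfam a b c 0) := by
    refine ⟨fun i j hij => ?_, fun i j hij k l hkl e1' e2' => ?_, fun i j hij l hjl hil => ?_⟩
    · exact hu (Rep.mul h (h7 0 i j hij) (h7 0 i j hij)) (Rep.one h) (h.sq hij)
    · exact hu (Rep.mul h (h7 0 i j hij) (h7 0 k l hkl)) (Rep.mul h (h7 0 k l hkl) (h7 0 i j hij))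
        (h.com hij hkl e1' e2')
    · exact hu (Rep.mul h (Rep.mul h (h7 0 i j hij) (h7 0 j l hjl))
        (Rep.mul h (h7 0 i j hij) (h7 0 j l hjl))) (h7 0 i l hil) (h.brac hij hjl hil)
  rcases check a b c hz with ⟨x, hw, hcp⟩ | ⟨g, hg, hgu⟩
  · obtain ⟨n, hn⟩ := Rep.surj h hK x 1 2 6 (by decide +kernel)
    let y : Fin 4 → Fin 4 → G := fun i j =>
      if i = 3 then (if j = 2 then n else n * r 2 1 * (n * r 2 1)) else r i j
    have hy : ∀ i j, root9 i j = true → Rep r K (y i j) (zfam a b c x i j) := by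
      intro i j hij
      fin_cases i <;> fin_cases j <;> first
        | exact absurd hij (by decide)
        | exact h7 x _ _ rfl
        | exact hn
        | exact Rep.mul h (Rep.mul h hn hb) (Rep.mul h hn hb)
    refine ⟨y, wing_of_rep h hK hy hw, fun i j hij => ?_, ?_⟩
    · have : i ≠ 3 := by
        simp only [root7, decide_eq_true_eq] at hij
        exact hij.2.2
      show (if i = 3 then _ else r i j) = r i j
      rw [if_neg this]
    · intro g hgN c1 c2 c3 c4 c5
      obtain ⟨⟨d, p, q, t⟩, hf⟩ := Rep.exists_rep h hK hgN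
      have fixv : ∀ v, g * e r v = e r v * g → lin ⟨d, p, q, t⟩ v = v := fun v hv => by
        refine h.e_inj ((hf.2 v).symm.trans ?_)
        rw [hv, mul_inv_cancel_right]
      have hq : q = 2 := by
        have := fixv 2 (by rw [Side.e_two]; exact c1)
        rwa [(lin_basis _).2.2.1] at this
      have ht : t = 4 := by
        have := fixv 4 (by rw [Side.e_four]; exact c2)
        rwa [(lin_basis _).2.2.2] at this
      subst hq; subst ht
      have y02 := hy 0 2 rfl
      have y03 := hy 0 3 rfl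
      have y12 := hy 1 2 rfl
      have y13 := hy 1 3 rfl
      have y32 := hy 3 2 rfl
      rcases hcp d p (hu (Rep.mul h hf y02) (Rep.mul h y02 hf) c1)
        (hu (Rep.mul h hf y03) (Rep.mul h y03 hf) c2)
        (hu (Rep.mul h hf y12) (Rep.mul h y12 hf) c3)
        (hu (Rep.mul h hf y13) (Rep.mul h y13 hf) c4)
        (hu (Rep.mul h (Rep.mul h y32 hf) (Rep.mul h y32 hf)) (Rep.one h) c5) with e' | e' | e' | e'
      · exact Or.inl (eq hf (Rep.one h) e')
      · exact Or.inr (Or.inl (eq hf y02 e'))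
      · exact Or.inr (Or.inr (Or.inl (eq hf y12 e')))
      · exact Or.inr (Or.inr (Or.inr (eq hf (Rep.mul h y02 y12) e')))
  · obtain ⟨gd, ga, gb, gc⟩ := g
    obtain ⟨n, hn⟩ := Rep.surj h hK gd ga gb gc (witnesses_inj _ hg)
    have u02 := h7 0 0 2 rfl
    have u13 := h7 0 1 3 rfl
    have key : ∀ i j, root7 i j = true →
        (⟨gd, ga, gb, gc⟩ : Aff) * (zfam a b c 0 0 2 * zfam a b c 0 1 3) =
          zfam a b c 0 i j * ⟨gd, ga, gb, gc⟩ → IsConj (r 0 2 * r 1 3) (r i j) := by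
      intro i j hij hgu
      have := eq (Rep.mul h hn (Rep.mul h u02 u13)) (Rep.mul h (h7 0 i j hij) hn) hgu
      exact isConj_iff.2 ⟨n, by rw [this, mul_inv_cancel_right]⟩
    rcases hgu with hgu | hgu
    · exact absurd (key 1 2 rfl hgu) nc1
    · exact absurd (key 2 1 rfl hgu) nc2

/-- The centre of the group of the upper root elements. -/
theorem center_upper [Finite G] {r : Fin 4 → Fin 4 → G} (h : Side r) {g : G}
    (hg : ∀ i j, root7 i j = true → i < j → g * r i j = r i j * g) : g = 1 ∨ g = r 0 3 := by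
  have hge : g ∈ e1 r := h.cent (Subgroup.mem_centralizer_iff.2 fun x hx => by
    refine (Subgroup.mem_centralizer_singleton_iff.1
      ((Subgroup.closure_le _).2 (show {r 0 1, r 0 2, r 0 3} ⊆
        (Subgroup.centralizer {g} : Set G) from ?_) hx))
    rintro a (rfl | rfl | rfl)
    · exact Subgroup.mem_centralizer_singleton_iff.2 (hg 0 1 rfl (by decide)).symm
    · exact Subgroup.mem_centralizer_singleton_iff.2 (hg 0 2 rfl (by decide)).symm
    · exact Subgroup.mem_centralizer_singleton_iff.2 (hg 0 3 rfl (by decide)).symm)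
  obtain ⟨v, rfl⟩ := h.e_surj hge
  have fix : ∀ {n : G} {f : Aff}, Act r n f → e r v * n = n * e r v → lin f v = v := by
    intro n f hn hv
    exact h.e_inj ((hn v).symm.trans (by rw [← hv, mul_inv_cancel_right]))
  have f1 := fix h.act13 (hg 1 3 rfl (by decide))
  have f2 := fix h.act23 (hg 2 3 rfl (by decide))
  have k : ∀ v : Fin 8, lin ⟨0, 5, 2, 4⟩ v = v → lin ⟨0, 1, 6, 4⟩ v = v → v = 0 ∨ v = 4 := by
    decide +kernel
  rcases k v f1 f2 with rfl | rfl
  · exact Or.inl h.e_zero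
  · exact Or.inr Side.e_four

end Cfsg.Agent.S3344Id
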