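import Cfsg.Agent.Lib.S3344Id.Model
import Cfsg.Agent.Lib.Solvable.Gaschutz
import Mathlib.GroupTheory.PGroup

/-!
S3344: the normaliser of an elementary abelian subgroup of order eight spanned by root elements
is the affine group.
-/

set_option autoImplicit false

namespace Cfsg.Agent.S3344Id

variable {G : Type*} [Group G]

theorem pow_mod_two {a : G} (h : a * a = 1) (n : ℕ) : a ^ (n % 2) = a ^ n := by
  conv_rhs => rw [← Nat.mod_add_div n 2, pow_add, pow_mul, pow_two, h, one_pow, mul_one]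

theorem conj_brac {a b c : G} (ha : a * a = 1) (hb : b * b = 1) (h : a * b * (a * b) = c) :
    b * a * b⁻¹ = a * c := by
  rw [inv_eq_of_mul_eq_one_right hb, ← h]
  simp only [← mul_assoc, ha, one_mul]

theorem conj_fix {a b : G} (h : a * b = b * a) : b * a * b⁻¹ = a := by
  rw [← h, mul_inv_cancel_right]

/-- The subgroup of the first row. -/
def e1 (r : Fin 4 → Fin 4 → G) : Subgroup G := Subgroup.closure {r 0 1, r 0 2, r 0 3}

/-- Coordinates on the first row. -/
def e (r : Fin 4 → Fin 4 → G) (v : Fin 8) : G :=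
  r 0 1 ^ (v.val % 2) * r 0 2 ^ (v.val / 2 % 2) * r 0 3 ^ (v.val / 4)

/-- The action on the first row is the linear part of `f`. -/
def Act (r : Fin 4 → Fin 4 → G) (n : G) (f : Aff) : Prop :=
  ∀ v : Fin 8, n * e r v * n⁻¹ = e r (lin f v)

/-- The hypotheses about one side. -/
structure Side (r : Fin 4 → Fin 4 → G) : Prop where
  rels : Rels root7 r
  cent : Subgroup.centralizer (e1 r : Set G) ≤ e1 r
  norm : Nat.card (Subgroup.normalizer (e1 r : Set G)) = 1344

/-- The eight products of the first three upper roots outside the first row. -/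
def wd (r : Fin 4 → Fin 4 → G) (i : Fin 8) : G :=
  r 1 2 ^ (i.val % 2) * r 2 3 ^ (i.val / 2 % 2) * r 1 3 ^ (i.val / 4)

/-- Their affine images. -/
def wdA (i : Fin 8) : Aff :=
  (if i.val % 2 = 1 then ⟨0, 3, 2, 4⟩ else 1) * (if i.val / 2 % 2 = 1 then ⟨0, 1, 6, 4⟩ else 1) *
    (if i.val / 4 = 1 then ⟨0, 5, 2, 4⟩ else 1)

theorem wdA_inj : ∀ i j : Fin 8,
    (wdA i).a = (wdA j).a → (wdA i).b = (wdA j).b → (wdA i).c = (wdA j).c → i = j := by
  decide +kernel

namespace Side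

variable {r : Fin 4 → Fin 4 → G}

theorem sq (h : Side r) {i j : Fin 4} (hij : root7 i j = true) : r i j * r i j = 1 :=
  h.rels.1 i j hij

theorem com (h : Side r) {i j k l : Fin 4} (h1 : root7 i j = true) (h2 : root7 k l = true)
    (h3 : i ≠ l) (h4 : j ≠ k) : r i j * r k l = r k l * r i j :=
  h.rels.2.1 i j h1 k l h2 h3 h4

theorem brac (h : Side r) {i j l : Fin 4} (h1 : root7 i j = true) (h2 : root7 j l = true)
    (h3 : root7 i l = true) : r i j * r j l * (r i j * r j l) = r i l :=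
  h.rels.2.2 i j h1 l h2 h3

variable (h : Side r)
include h

theorem e_zero : e r 0 = 1 := by simp [e]

omit h in
theorem e_one : e r 1 = r 0 1 := by simp [e]

omit h in
theorem e_two : e r 2 = r 0 2 := by simp [e]

omit h in
theorem e_four : e r 4 = r 0 3 := by simp [e]

theorem e_xor (u v : Fin 8) : e r (u ^^^ v) = e r u * e r v := by
  obtain ⟨h1, h2, h3⟩ := xor_bits u v
  have ha := h.sq (i := 0) (j := 1) rfl
  have hb := h.sq (i := 0) (j := 2) rfl
  have hc := h.sq (i := 0) (j := 3) rfl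
  have hab : Commute (r 0 1) (r 0 2) := h.com rfl rfl (by decide) (by decide)
  have hac : Commute (r 0 1) (r 0 3) := h.com rfl rfl (by decide) (by decide)
  have hbc : Commute (r 0 2) (r 0 3) := h.com rfl rfl (by decide) (by decide)
  rw [e, h1, h2, h3, pow_mod_two ha, pow_mod_two hb, pow_mod_two hc, pow_add, pow_add, pow_add]
  simp only [e]
  set p1 := u.val % 2; set p2 := v.val % 2
  set q1 := u.val / 2 % 2; set q2 := v.val / 2 % 2
  set t1 := u.val / 4; set t2 := v.val / 4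
  rw [mul_assoc (r 0 1 ^ p1) (r 0 1 ^ p2), ← mul_assoc (r 0 1 ^ p2), (hab.pow_pow p2 q1).eq]
  simp only [mul_assoc]
  congr 2
  have hx : Commute (r 0 3 ^ t1) (r 0 1 ^ p2) := (hac.pow_pow p2 t1).symm
  have hy : Commute (r 0 3 ^ t1) (r 0 2 ^ q2) := (hbc.pow_pow q2 t1).symm
  rw [← mul_assoc (r 0 3 ^ t1) (r 0 1 ^ p2), hx.eq, mul_assoc]
  congr 1
  rw [← mul_assoc (r 0 3 ^ t1), hy.eq, mul_assoc]

omit h in
theorem e_mem (v : Fin 8) : e r v ∈ e1 r :=
  mul_mem (mul_mem (pow_mem (Subgroup.subset_closure (by simp)) _)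
    (pow_mem (Subgroup.subset_closure (by simp)) _)) (pow_mem (Subgroup.subset_closure (by simp)) _)

theorem e_sq (v : Fin 8) : e r v * e r v = 1 := by
  rw [← h.e_xor, ← h.e_zero]
  congr 1
  revert v; decide +kernel

theorem e_inv (v : Fin 8) : (e r v)⁻¹ = e r v := inv_eq_of_mul_eq_one_right (h.e_sq v)

theorem e_surj {x : G} (hx : x ∈ e1 r) : ∃ v, e r v = x := by
  induction hx using Subgroup.closure_induction with
  | mem y hy =>
    rcases hy with rfl | rfl | rfl
    · exact ⟨1, e_one⟩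
    · exact ⟨2, e_two⟩
    · exact ⟨4, e_four⟩
  | one => exact ⟨0, h.e_zero⟩
  | mul y z _ _ hy hz =>
    obtain ⟨u, rfl⟩ := hy; obtain ⟨v, rfl⟩ := hz
    exact ⟨u ^^^ v, h.e_xor u v⟩
  | inv y _ hy =>
    obtain ⟨u, rfl⟩ := hy
    exact ⟨u, (h.e_inv u).symm⟩

theorem e1_comm {x y : G} (hx : x ∈ e1 r) (hy : y ∈ e1 r) : x * y = y * x := by
  obtain ⟨u, rfl⟩ := h.e_surj hx
  obtain ⟨v, rfl⟩ := h.e_surj hy
  have k : ∀ u v : Fin 8, u ^^^ v = v ^^^ u := by decide +kernel
  rw [← h.e_xor, ← h.e_xor, k]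

theorem e1_le_norm : e1 r ≤ Subgroup.normalizer (e1 r : Set G) := Subgroup.le_normalizer

theorem card_e1 [Finite G] : Nat.card (e1 r) = 8 := by
  classical
  have hle : Nat.card (e1 r) ≤ 8 := by
    have := Nat.card_le_card_of_surjective (fun v => (⟨e r v, e_mem v⟩ : e1 r))
      (fun x => by
        obtain ⟨v, hv⟩ := h.e_surj x.2
        exact ⟨v, Subtype.ext hv⟩)
    simpa using this
  have hp : IsPGroup 2 (e1 r) := fun x => ⟨1, by
    obtain ⟨v, hv⟩ := h.e_surj x.2
    apply Subtype.ext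
    show (x : G) ^ (2 ^ 1) = 1
    rw [← hv, pow_one, pow_two, h.e_sq]⟩
  obtain ⟨k, hk⟩ := IsPGroup.iff_card.1 hp
  rcases Nat.lt_or_ge k 3 with hk3 | hk3
  · exfalso
    have h4 : Nat.card (e1 r) ≤ 4 := by
      rw [hk]
      calc 2 ^ k ≤ 2 ^ 2 := Nat.pow_le_pow_right (by norm_num) (by omega)
        _ = 4 := rfl
    let N := Subgroup.normalizer (e1 r : Set G)
    have cm : ∀ (n : N) (x : e1 r), (n : G) * x * (n : G)⁻¹ ∈ e1 r := fun n x =>
      (Subgroup.mem_normalizer_iff.1 n.2 x).1 x.2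
    let T : N → e1 r × e1 r × e1 r := fun n =>
      (⟨_, cm n ⟨e r 1, e_mem 1⟩⟩, ⟨_, cm n ⟨e r 2, e_mem 2⟩⟩, ⟨_, cm n ⟨e r 4, e_mem 4⟩⟩)
    have key : ∀ n m : N, T n = T m → (m : G)⁻¹ * n ∈ e1 r := by
      intro n m hT
      simp only [T, Prod.mk.injEq, Subtype.mk.injEq] at hT
      refine h.cent (Subgroup.mem_centralizer_iff.2 fun y hy => ?_)
      have hgen : e1 r ≤ Subgroup.centralizer {(m : G)⁻¹ * n} := by
        refine (Subgroup.closure_le _).2 ?_
        have aux : ∀ a : G, (n : G) * a * (n : G)⁻¹ = m * a * (m : G)⁻¹ →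
            a ∈ Subgroup.centralizer {(m : G)⁻¹ * n} := by
          intro a ha
          refine Subgroup.mem_centralizer_singleton_iff.2 ?_
          have := congrArg (fun t => (m : G)⁻¹ * t * n) ha
          simp only [mul_assoc, inv_mul_cancel, mul_one, inv_mul_cancel_left] at this
          rw [mul_assoc]; exact this.symm
        rintro a (rfl | rfl | rfl)
        · have := hT.1; rw [e_one] at this; exact aux _ this
        · have := hT.2.1; rw [e_two] at this; exact aux _ this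
        · have := hT.2.2; rw [e_four] at this; exact aux _ this
      exact Subgroup.mem_centralizer_singleton_iff.1 (hgen hy)
    have : Nonempty N := ⟨1⟩
    let σ := Function.invFun T
    have hσ : ∀ n, T n = T (σ (T n)) := fun n => (Function.invFun_eq ⟨n, rfl⟩).symm
    let F : N → (e1 r × e1 r × e1 r) × e1 r := fun n =>
      (T n, ⟨_, key n (σ (T n)) (hσ n)⟩)
    have hF : Function.Injective F := by
      intro n m hnm
      simp only [F, Prod.mk.injEq, Subtype.mk.injEq] at hnm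
      obtain ⟨h1, h2⟩ := hnm
      rw [h1] at h2
      exact Subtype.ext (mul_left_cancel h2)
    have := Nat.card_le_card_of_injective F hF
    rw [show Nat.card N = 1344 from h.norm, Nat.card_prod, Nat.card_prod, Nat.card_prod] at this
    have := Nat.mul_le_mul (Nat.mul_le_mul h4 (Nat.mul_le_mul h4 h4)) h4
    omega
  · have : 2 ^ 3 ≤ 2 ^ k := Nat.pow_le_pow_right (by norm_num) hk3
    omega

theorem e_inj [Finite G] : Function.Injective (e r) := by
  have hb : Function.Bijective (fun v => (⟨e r v, e_mem v⟩ : e1 r)) :=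
    (Nat.bijective_iff_surjective_and_card _).2 ⟨fun x => by
        obtain ⟨v, hv⟩ := h.e_surj x.2
        exact ⟨v, Subtype.ext hv⟩, by rw [h.card_e1]; simp⟩
  exact fun u v huv => hb.1 (Subtype.ext huv)

theorem act_of_basis {n : G} {d a b c : Fin 8} (h1 : n * r 0 1 * n⁻¹ = e r a)
    (h2 : n * r 0 2 * n⁻¹ = e r b) (h3 : n * r 0 3 * n⁻¹ = e r c) : Act r n ⟨d, a, b, c⟩ := by
  intro v
  have hp : ∀ (k : ℕ) (x : Fin 8), k < 2 → e r x ^ k = e r (if k = 1 then x else 0) := by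
    intro k x hk
    interval_cases k <;> simp [h.e_zero]
  have hconj : ∀ x y : G, n * (x * y) * n⁻¹ = (n * x * n⁻¹) * (n * y * n⁻¹) := fun x y => by group
  have hw : ∀ v : Fin 8, v.val / 4 < 2 := by decide
  rw [e, hconj, hconj, ← conj_pow, ← conj_pow, ← conj_pow, h1, h2, h3, hp _ _ (Nat.mod_lt _ two_pos),
    hp _ _ (Nat.mod_lt _ two_pos), hp _ _ (hw v), ← h.e_xor, ← h.e_xor]
  rfl

theorem act_mul {n m : G} {f g : Aff} (hn : Act r n f) (hm : Act r m g) :
    Act r (n * m) (f * g) := by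
  refine h.act_of_basis ?_ ?_ ?_
  all_goals
    rw [show ∀ x, n * m * x * (n * m)⁻¹ = n * (m * x * m⁻¹) * n⁻¹ from fun x => by group]
  · rw [← e_one (r := r), hm 1, hn, (lin_basis g).2.1]
  · rw [← e_two (r := r), hm 2, hn, (lin_basis g).2.2.1]
  · rw [← e_four (r := r), hm 4, hn, (lin_basis g).2.2.2]

theorem act_one : Act r 1 1 := fun v => by rw [lin_one]; simp

theorem act_e (u : Fin 8) : Act r (e r u) (tr u) := fun v => by
  rw [show lin (tr u) v = v from lin_one v, h.e1_comm (e_mem u) (e_mem v), mul_inv_cancel_right]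

theorem act_uniq [Finite G] {n : G} {f g : Aff} (hf : Act r n f) (hg : Act r n g) :
    f.a = g.a ∧ f.b = g.b ∧ f.c = g.c := by
  have k : ∀ v, lin f v = lin g v := fun v => h.e_inj ((hf v).symm.trans (hg v))
  obtain ⟨-, fa, fb, fc⟩ := lin_basis f
  obtain ⟨-, ga, gb, gc⟩ := lin_basis g
  exact ⟨fa ▸ ga ▸ k 1, fb ▸ gb ▸ k 2, fc ▸ gc ▸ k 4⟩

theorem act_inj [Finite G] {n : G} {f : Aff} (hf : Act r n f) : Inj3 f.a f.b f.c := by
  intro v hv
  refine h.e_inj ?_
  have := hf v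
  rw [show lin f v = 0 from hv, h.e_zero, conj_eq_one_iff] at this
  rw [this, h.e_zero]

theorem act_exists {n : G} (hn : n ∈ Subgroup.normalizer (e1 r : Set G)) : ∃ f, Act r n f := by
  have c : ∀ x ∈ e1 r, ∃ v, e r v = n * x * n⁻¹ := fun x hx =>
    h.e_surj ((Subgroup.mem_normalizer_iff.1 hn x).1 hx)
  obtain ⟨a, ha⟩ := c _ (e_mem (r := r) 1)
  obtain ⟨b, hb⟩ := c _ (e_mem (r := r) 2)
  obtain ⟨c, hc⟩ := c _ (e_mem (r := r) 4)
  rw [e_one] at ha; rw [e_two] at hb; rw [e_four] at hc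
  exact ⟨⟨0, a, b, c⟩, h.act_of_basis ha.symm hb.symm hc.symm⟩

theorem mem_norm_of_act {n : G} {f : Aff} (hn : Act r n f) (hsq : n * n = 1) :
    n ∈ Subgroup.normalizer (e1 r : Set G) := by
  have k : ∀ x ∈ e1 r, n * x * n⁻¹ ∈ e1 r := fun x hx => by
    obtain ⟨v, rfl⟩ := h.e_surj hx
    rw [hn v]; exact e_mem _
  refine Subgroup.mem_normalizer_iff.2 fun x => ⟨k x, fun hx => ?_⟩
  have := k _ hx
  simpa [inv_eq_of_mul_eq_one_right hsq, mul_assoc, hsq, ← mul_assoc n n] using this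

theorem act12 : Act r (r 1 2) ⟨0, 3, 2, 4⟩ := by
  refine h.act_of_basis ?_ ?_ ?_
  · rw [conj_brac (h.sq rfl) (h.sq rfl) (h.brac rfl rfl rfl)]; simp [e]
  · rw [conj_fix (h.com rfl rfl (by decide) (by decide)), e_two]
  · rw [conj_fix (h.com rfl rfl (by decide) (by decide)), e_four]

theorem act21 : Act r (r 2 1) ⟨0, 1, 3, 4⟩ := by
  refine h.act_of_basis ?_ ?_ ?_
  · rw [conj_fix (h.com rfl rfl (by decide) (by decide)), e_one]
  · rw [conj_brac (h.sq rfl) (h.sq rfl) (h.brac rfl rfl rfl),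
      h.com rfl rfl (by decide) (by decide)]
    simp [e]
  · rw [conj_fix (h.com rfl rfl (by decide) (by decide)), e_four]

theorem act23 : Act r (r 2 3) ⟨0, 1, 6, 4⟩ := by
  refine h.act_of_basis ?_ ?_ ?_
  · rw [conj_fix (h.com rfl rfl (by decide) (by decide)), e_one]
  · rw [conj_brac (h.sq rfl) (h.sq rfl) (h.brac rfl rfl rfl)]; simp [e]
  · rw [conj_fix (h.com rfl rfl (by decide) (by decide)), e_four]

theorem act13 : Act r (r 1 3) ⟨0, 5, 2, 4⟩ := by
  refine h.act_of_basis ?_ ?_ ?_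
  · rw [conj_brac (h.sq rfl) (h.sq rfl) (h.brac rfl rfl rfl)]; simp [e]
  · rw [conj_fix (h.com rfl rfl (by decide) (by decide)), e_two]
  · rw [conj_fix (h.com rfl rfl (by decide) (by decide)), e_four]

theorem seven_mem {i j : Fin 4} (hij : root7 i j = true) :
    r i j ∈ Subgroup.normalizer (e1 r : Set G) := by
  have h0 : ∀ v, e r v ∈ Subgroup.normalizer (e1 r : Set G) := fun v => h.e1_le_norm (e_mem v)
  have h1 := h.mem_norm_of_act h.act12 (h.sq rfl)
  have h2 := h.mem_norm_of_act h.act21 (h.sq rfl)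
  have h3 := h.mem_norm_of_act h.act23 (h.sq rfl)
  have h4 := h.mem_norm_of_act h.act13 (h.sq rfl)
  fin_cases i <;> fin_cases j <;> first
    | exact absurd hij (by decide)
    | exact h1 | exact h2 | exact h3 | exact h4
    | exact e_one (r := r) ▸ h0 1 | exact e_two (r := r) ▸ h0 2 | exact e_four (r := r) ▸ h0 4

theorem act_wd (i : Fin 8) : Act r (wd r i) (wdA i) := by
  have hp : ∀ (x : G) (f : Aff) (k : ℕ), k < 2 → Act r x f →
      Act r (x ^ k) (if k = 1 then f else 1) := by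
    intro x f k hk hx
    interval_cases k
    · simpa using h.act_one
    · simpa using hx
  have hw : ∀ v : Fin 8, v.val / 4 < 2 := by decide
  exact h.act_mul (h.act_mul (hp _ _ _ (Nat.mod_lt _ two_pos) h.act12)
    (hp _ _ _ (Nat.mod_lt _ two_pos) h.act23)) (hp _ _ _ (hw i) h.act13)

theorem closure_wd {x : G} (hx : x ∈ Subgroup.closure ({r 1 2, r 2 3, r 1 3} : Set G)) :
    ∃ i, wd r i = x := by
  have a2 := h.sq (i := 1) (j := 2) rfl
  have b2 := h.sq (i := 2) (j := 3) rfl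
  have c2 := h.sq (i := 1) (j := 3) rfl
  have hbc : Commute (r 2 3) (r 1 3) := h.com rfl rfl (by decide) (by decide)
  have hac : Commute (r 1 2) (r 1 3) := h.com rfl rfl (by decide) (by decide)
  have hbr := h.brac (i := 1) (j := 2) (l := 3) rfl rfl rfl
  have ba : r 2 3 * r 1 2 = r 1 2 * r 2 3 * r 1 3 := by
    rw [mul_assoc, hbc.eq, ← hbr]
    simp only [← mul_assoc, a2, one_mul]
    rw [mul_assoc _ (r 2 3) (r 2 3), b2, mul_one]
  have bap : ∀ p : ℕ, r 2 3 * r 1 2 ^ p = r 1 2 ^ p * r 2 3 * r 1 3 ^ p := by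
    intro p
    induction p with
    | zero => simp
    | succ p ih =>
      rw [pow_succ, pow_succ', ← mul_assoc, ih, mul_assoc (r 1 2 ^ p * r 2 3),
        (hac.pow_right p).symm.eq, ← mul_assoc, mul_assoc (r 1 2 ^ p), ba]
      simp only [mul_assoc]
  suffices ∃ p q t : ℕ, r 1 2 ^ p * r 2 3 ^ q * r 1 3 ^ t = x by
    obtain ⟨p, q, t, rfl⟩ := this
    refine ⟨⟨p % 2 + 2 * (q % 2) + 4 * (t % 2), by omega⟩, ?_⟩
    show r 1 2 ^ ((p % 2 + 2 * (q % 2) + 4 * (t % 2)) % 2) *
      r 2 3 ^ ((p % 2 + 2 * (q % 2) + 4 * (t % 2)) / 2 % 2) *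
      r 1 3 ^ ((p % 2 + 2 * (q % 2) + 4 * (t % 2)) / 4) = _
    rw [show (p % 2 + 2 * (q % 2) + 4 * (t % 2)) % 2 = p % 2 by omega,
      show (p % 2 + 2 * (q % 2) + 4 * (t % 2)) / 2 % 2 = q % 2 by omega,
      show (p % 2 + 2 * (q % 2) + 4 * (t % 2)) / 4 = t % 2 by omega,
      pow_mod_two a2, pow_mod_two b2, pow_mod_two c2]
  have step : ∀ g ∈ ({r 1 2, r 2 3, r 1 3} : Set G), ∀ p q t : ℕ,
      ∃ p' q' t' : ℕ, r 1 2 ^ p' * r 2 3 ^ q' * r 1 3 ^ t' =
        g * (r 1 2 ^ p * r 2 3 ^ q * r 1 3 ^ t) := by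
    rintro g hg p q t
    rcases hg with rfl | rfl | rfl
    · exact ⟨p + 1, q, t, by rw [pow_succ']; simp only [mul_assoc]⟩
    · refine ⟨p, q + 1, p + t, ?_⟩
      rw [← mul_assoc (r 2 3), ← mul_assoc (r 2 3), bap, mul_assoc (r 1 2 ^ p * r 2 3),
        (hbc.symm.pow_pow p q).eq, pow_succ', pow_add]
      simp only [mul_assoc]
    · refine ⟨p, q, t + 1, ?_⟩
      rw [← mul_assoc (r 1 3), ← mul_assoc (r 1 3), (hac.symm.pow_right p).eq,
        mul_assoc (r 1 2 ^ p) (r 1 3), (hbc.symm.pow_right q).eq, pow_succ']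
      simp only [mul_assoc]
  induction hx using Subgroup.closure_induction_left with
  | one => exact ⟨0, 0, 0, by simp⟩
  | mul_left g hg y _ ih =>
    obtain ⟨p, q, t, rfl⟩ := ih
    exact step g hg p q t
  | inv_mul_cancel g hg y _ ih =>
    obtain ⟨p, q, t, rfl⟩ := ih
    have hg2 : g * g = 1 := by rcases hg with rfl | rfl | rfl <;> assumption
    rw [inv_eq_of_mul_eq_one_right hg2]
    exact step g hg p q t

theorem exists_complement [Finite G] :
    ∃ K : Subgroup G, K ≤ Subgroup.normalizer (e1 r : Set G) ∧ e1 r ⊓ K = ⊥ ∧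
      ∀ n ∈ Subgroup.normalizer (e1 r : Set G), ∃ v, e r v * n ∈ K := by
  set N := Subgroup.normalizer (e1 r : Set G) with hN
  set A := Subgroup.closure ({r 1 2, r 2 3, r 1 3} : Set G) with hA
  have hAN : A ≤ N := (Subgroup.closure_le _).2 (by
    rintro x (rfl | rfl | rfl) <;> exact h.seven_mem rfl)
  have hEN : e1 r ≤ N := h.e1_le_norm
  have hdis : ∀ u i, e r u * wd r i ∈ e1 r → i = 0 := by
    intro u i hi
    obtain ⟨v, hv⟩ := h.e_surj hi
    have h1 : Act r (wd r i) (tr u * tr v) := by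
      have : wd r i = e r u * e r v := by rw [hv, ← mul_assoc, h.e_sq, one_mul]
      rw [this]; exact h.act_mul (h.act_e u) (h.act_e v)
    obtain ⟨ha, hb, hc⟩ := h.act_uniq (h.act_wd i) h1
    refine wdA_inj i 0 ?_ ?_ ?_
    · rw [ha]; exact (lin_one _)
    · rw [hb]; exact (lin_one _)
    · rw [hc]; exact (lin_one _)
  have hAE : A ⊓ e1 r = ⊥ := by
    rw [eq_bot_iff]
    rintro x ⟨hxA, hxE⟩
    obtain ⟨i, rfl⟩ := h.closure_wd hxA
    have := hdis 0 i (by rw [h.e_zero, one_mul]; exact hxE)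
    subst this
    simp [wd]
  have hwA : ∀ i, wd r i ∈ A := fun i =>
    mul_mem (mul_mem (pow_mem (Subgroup.subset_closure (by simp)) _)
      (pow_mem (Subgroup.subset_closure (by simp)) _))
      (pow_mem (Subgroup.subset_closure (by simp)) _)
  have hU : Nat.card (e1 r ⊔ A : Subgroup G) = 64 := by
    let f : Fin 8 × Fin 8 → (e1 r ⊔ A : Subgroup G) := fun p =>
      ⟨e r p.1 * wd r p.2, mul_mem (Subgroup.mem_sup_left (e_mem _))
        (Subgroup.mem_sup_right (hwA _))⟩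
    have hf : Function.Bijective f := by
      constructor
      · rintro ⟨u, i⟩ ⟨v, j⟩ huv
        have huv' : e r u * wd r i = e r v * wd r j := congrArg Subtype.val huv
        obtain ⟨ha, hb, hc⟩ := h.act_uniq (h.act_mul (h.act_e u) (h.act_wd i))
          (huv' ▸ h.act_mul (h.act_e v) (h.act_wd j))
        have ij : i = j := wdA_inj i j
          ((lin_one _).symm.trans (ha.trans (lin_one _)))
          ((lin_one _).symm.trans (hb.trans (lin_one _)))
          ((lin_one _).symm.trans (hc.trans (lin_one _)))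
        subst ij
        rw [h.e_inj (mul_right_cancel huv')]
      · rintro ⟨x, hx⟩
        obtain ⟨k, hk, a, ha, rfl⟩ :=
          (SolvBasic.mem_sup_iff_of_le_normalizer hAN).1 hx
        obtain ⟨u, rfl⟩ := h.e_surj hk
        obtain ⟨i, rfl⟩ := h.closure_wd ha
        exact ⟨(u, i), rfl⟩
    rw [← Nat.card_eq_of_bijective f hf]
    simp
  have hUN : e1 r ⊔ A ≤ N := sup_le hEN hAN
  haveI : ((e1 r).subgroupOf N).Normal := Subgroup.normal_in_normalizer
  haveI : IsMulCommutative ((e1 r).subgroupOf N) :=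
    ⟨⟨fun a b => Subtype.ext (Subtype.ext (h.e1_comm a.2 b.2))⟩⟩
  have hidx : ((e1 r ⊔ A).subgroupOf N).index = 21 := by
    have := Subgroup.card_mul_index ((e1 r ⊔ A).subgroupOf N)
    rw [Nat.card_congr (Subgroup.subgroupOfEquivOfLe hUN).toEquiv, hU,
      show Nat.card N = 1344 from h.norm] at this
    omega
  obtain ⟨H, hH⟩ := SolvGaschutz.existence (K := (e1 r).subgroupOf N)
    (U := (e1 r ⊔ A).subgroupOf N) (Subgroup.comap_mono le_sup_left)
    (by rw [hidx, Nat.card_congr (Subgroup.subgroupOfEquivOfLe hEN).toEquiv, h.card_e1]; decide)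
    (A := A.subgroupOf N) (Subgroup.comap_mono le_sup_right)
    (by
      rw [Subgroup.subgroupOf, Subgroup.subgroupOf, ← Subgroup.comap_inf, hAE]
      ext x
      simp)
    (Subgroup.subgroupOf_sup hEN hAN).symm
  refine ⟨H.map N.subtype, Subgroup.map_subtype_le H, ?_, fun n hn => ?_⟩
  · rw [eq_bot_iff]
    rintro x ⟨hxE, ⟨y, hy, rfl⟩⟩
    have : y ∈ (e1 r).subgroupOf N ⊓ H := ⟨hxE, hy⟩
    rw [hH.disjoint.eq_bot, Subgroup.mem_bot] at this
    simp [this]
  · obtain ⟨⟨⟨k, hk⟩, y⟩, hky⟩ := hH.2 ⟨n, hn⟩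
    obtain ⟨v, hv⟩ := h.e_surj hk
    refine ⟨v, ⟨y, y.2, ?_⟩⟩
    have : (k : G) * (y : N) = n := congrArg Subtype.val hky
    show ((y : N) : G) = e r v * n
    have hv' : e r v = (k : G) := hv
    have h2 := h.e_sq v
    rw [hv'] at h2
    rw [← this, hv', ← mul_assoc, h2, one_mul]

end Side

end Cfsg.Agent.S3344Id
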