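import Cfsg.Agent.Lib.Classical.SL
import Mathlib.Algebra.Module.ZMod
import Mathlib.LinearAlgebra.Matrix.ToLin
import Mathlib.LinearAlgebra.Matrix.FiniteDimensional
import Mathlib.GroupTheory.QuotientGroup.Basic

/-!
S3344: a group of order 1344 with a self-centralising normal elementary abelian subgroup of order
eight.
-/

set_option autoImplicit false

namespace Cfsg.Agent.S3344Id

open Matrix

theorem card_sl32 : Nat.card (SpecialLinearGroup (Fin 3) (ZMod 2)) = 168 := by
  haveI : Fact (Nat.Prime 2) := ⟨Nat.prime_two⟩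
  have h2 : Nat.card (ZMod 2) = 2 := by rw [Nat.card_eq_fintype_card, ZMod.card]
  have h := ClassicalSL.card_sl_mul (ι := Fin 3) (F := ZMod 2)
  have hgl : Nat.card (GL (Fin 3) (ZMod 2)) = 168 := by
    rw [ClassicalSL.card_gl_fin h2 3]; decide
  rw [h2, hgl] at h
  omega

theorem zmod_two_unit : ∀ u v : ZMod 2, u * v = 1 → u = 1 := by decide

theorem small_case {G : Type*} [Group G] [Finite G] (E : Subgroup G) (hcomm : IsMulCommutative E)
    (hsq : ∀ x ∈ E, x ^ 2 = 1) (hE : Nat.card E = 8)
    (hN : Nat.card (Subgroup.normalizer (E : Set G)) = Nat.card G) (hG : Nat.card G = 1344)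
    (hC : Subgroup.centralizer (E : Set G) ≤ E) :
    ∃ (N : Subgroup G) (hN : N.Normal), IsMulCommutative N ∧ (∀ n ∈ N, n ^ 2 = 1) ∧ Nat.card N = 8 ∧
      Nonempty (G ⧸ N ≃* Matrix.ProjectiveSpecialLinearGroup (Fin 3) (ZMod 2)) := by
  classical
  haveI : Fact (Nat.Prime 2) := ⟨Nat.prime_two⟩
  haveI hnorm : E.Normal := Subgroup.normalizer_eq_top_iff.1 (Subgroup.eq_top_of_card_eq _ hN)
  refine ⟨E, hnorm, hcomm, hsq, hE, ?_⟩
  letI : CommGroup E := { (inferInstance : Group E) with
    mul_comm := fun a b => hcomm.is_comm.comm a b }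
  letI : Module (ZMod 2) (Additive E) := AddCommGroup.zmodModule (fun x => by
    rw [← ofMul_toMul x, ← ofMul_pow, ofMul_eq_zero]
    exact Subtype.ext (hsq _ x.toMul.2))
  have hfr : Module.finrank (ZMod 2) (Additive E) = 3 := by
    have h1 := Module.natCard_eq_pow_finrank (K := ZMod 2) (V := Additive E)
    rw [show Nat.card (Additive E) = 8 from hE, Nat.card_zmod] at h1
    exact (Nat.pow_right_injective le_rfl (show 2 ^ 3 = 2 ^ _ from h1)).symm
  let b := Module.finBasisOfFinrankEq (ZMod 2) (Additive E) hfr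
  let L : G → (Additive E →ₗ[ZMod 2] Additive E) := fun g =>
    AddMonoidHom.toZModLinearMap 2 (MonoidHom.toAdditive (MulAut.conjNormal (H := E) g).toMonoidHom)
  have L1 : L 1 = 1 := LinearMap.ext fun x => Subtype.ext (show (MulAut.conjNormal (H := E) 1 x.toMul : G) = x.toMul by
    rw [map_one]; rfl)
  have Lm : ∀ g k, L (g * k) = L g * L k := fun g k => LinearMap.ext fun x => Subtype.ext
    (show (MulAut.conjNormal (H := E) (g * k) x.toMul : G) =
      MulAut.conjNormal (H := E) g (MulAut.conjNormal (H := E) k x.toMul) by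
    rw [map_mul]; rfl)
  let M : G →* Matrix (Fin 3) (Fin 3) (ZMod 2) :=
    { toFun := fun g => LinearMap.toMatrixAlgEquiv b (L g)
      map_one' := by rw [L1, map_one]
      map_mul' := fun g k => by rw [Lm, map_mul] }
  have hdet : ∀ g, (M g).det = 1 := fun g => by
    have h1 : (M g).det * (M g⁻¹).det = 1 := by
      rw [← det_mul, ← map_mul, mul_inv_cancel, map_one, det_one]
    exact zmod_two_unit _ _ h1
  let ρ : G →* SpecialLinearGroup (Fin 3) (ZMod 2) :=
    { toFun := fun g => (⟨M g, hdet g⟩ : SpecialLinearGroup (Fin 3) (ZMod 2))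
      map_one' := Subtype.ext (map_one M)
      map_mul' := fun g k => Subtype.ext (map_mul M g k) }
  have hker : ρ.ker = E := by
    ext g
    constructor
    · intro hg
      refine hC (Subgroup.mem_centralizer_iff.2 fun x hx => ?_)
      have h1 : L g = 1 := (LinearMap.toMatrixAlgEquiv b).injective (by
        rw [map_one]
        exact congrArg (fun A : SpecialLinearGroup (Fin 3) (ZMod 2) => A.1) (MonoidHom.mem_ker.1 hg))
      have h2 := congrArg (fun f => ((Additive.toMul (f (Additive.ofMul ⟨x, hx⟩)) : E) : G))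
        (congrArg DFunLike.coe h1)
      change g * x * g⁻¹ = x at h2
      exact (mul_inv_eq_iff_eq_mul.1 h2).symm
    · intro hg
      refine MonoidHom.mem_ker.2 (Subtype.ext ?_)
      show LinearMap.toMatrixAlgEquiv b (L g) = 1
      rw [show L g = 1 from LinearMap.ext fun x => Subtype.ext (show g * (x.toMul : G) * g⁻¹ = x.toMul by
        have h3 : g * (x.toMul : G) = (x.toMul : G) * g :=
          congrArg Subtype.val (hcomm.is_comm.comm ⟨g, hg⟩ x.toMul)
        rw [h3, mul_inv_cancel_right]), map_one]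
  have hsurj : Function.Surjective ρ := by
    rw [← MonoidHom.range_eq_top]
    refine Subgroup.eq_top_of_card_eq _ ?_
    have h1 := Subgroup.card_mul_index ρ.ker
    rw [Subgroup.index_ker, hker, hE, hG] at h1
    rw [card_sl32]
    omega
  have hz : Subgroup.center (SpecialLinearGroup (Fin 3) (ZMod 2)) = ⊥ :=
    Subgroup.card_eq_one.1 (by
      rw [ClassicalSL.card_center_sl, Nat.card_zmod]; simp)
  exact ⟨((QuotientGroup.quotientMulEquivOfEq hker.symm).trans
    (QuotientGroup.quotientKerEquivOfSurjective ρ hsurj)).trans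
    (QuotientGroup.quotientBot.symm.trans (QuotientGroup.quotientMulEquivOfEq hz.symm))⟩

end Cfsg.Agent.S3344Id
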